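import Cfsg.Agent.S5252
import Cfsg.Agent.H802.FusGroup
import Cfsg.Prelude.Def_Transfer
set_option linter.all false

/-!
# `N_G(S)/C_G(S)` a `p`-group, `p ≥ 5` (helper782)
-/

set_option autoImplicit false

namespace Cfsg.Agent.H782.GroupFocal

open Cfsg Cfsg.FusionSystem Cfsg.Agent.H802
open scoped commutatorElement

variable {G : Type*} [Group G]

/-- The focal subgroup of the group is contained in the focal subgroup of the fusion system. -/
theorem focalSubgroup_le (S : Subgroup G) :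
    S.focalSubgroup ≤ (groupFusionSystem S).focalSubgroup := by
  rw [Subgroup.focalSubgroup_def, Subgroup.closure_le]
  rintro g ⟨hg, x, hx, u, rfl⟩
  have h1 : u * x⁻¹ * u⁻¹ ∈ S := by
    have h2 : u * x⁻¹ * u⁻¹ = x⁻¹ * ⁅x, u⁆ := by
      rw [commutatorElement_def]
      group
    rw [h2]
    exact S.mul_mem (S.inv_mem hx) hg
  have hz : Subgroup.zpowers x⁻¹ ≤ S := by
    rw [Subgroup.zpowers_le]
    exact S.inv_mem hx
  have hmem : conjHom (Subgroup.zpowers x⁻¹) u ∈ (groupFusionSystem S).Hom (Subgroup.zpowers x⁻¹) := by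
    refine ⟨hz, ?_, u, fun y => rfl⟩
    rintro ⟨y, hy⟩
    obtain ⟨k, rfl⟩ := Subgroup.mem_zpowers_iff.1 hy
    show u * (x⁻¹) ^ k * u⁻¹ ∈ S
    rw [← conj_zpow]
    exact S.zpow_mem h1 k
  refine Subgroup.subset_closure ⟨Subgroup.zpowers x⁻¹, _, ⟨x⁻¹, Subgroup.mem_zpowers _⟩, hmem, ?_⟩
  show ⁅x, u⁆ = (x⁻¹)⁻¹ * (u * x⁻¹ * u⁻¹)
  rw [commutatorElement_def]
  group

/-- `Aut_F(S)` is a `p`-group if the `p'`-elements of `N_G(S)` centralize `S`. -/
theorem isPGroup_aut [Finite G] {p : ℕ} [Fact p.Prime] (S : Subgroup G)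
    (hN : ∀ g ∈ Subgroup.normalizer (S : Set G), (orderOf g).Coprime p →
      g ∈ Subgroup.centralizer (S : Set G)) :
    IsPGroup p ↥((groupFusionSystem S).autGroup S) := by
  rintro ⟨α, hα⟩
  obtain ⟨-, -, g, hg⟩ := (mem_autGroup_iff (groupFusionSystem S) le_rfl α).1 hα
  have hg' : ∀ x : S, ((α x : S) : G) = g * x * g⁻¹ := hg
  have hgN : g ∈ Subgroup.normalizer (S : Set G) := mem_normalizer_of_aut (fun x => (hg' x))
  obtain ⟨k, m, hm, hk⟩ := Nat.exists_eq_pow_mul_and_not_dvd (orderOf_pos g).ne' p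
    (Fact.out : p.Prime).ne_one
  have hpow : ∀ (j : ℕ) (x : S), (((α ^ j) x : S) : G) = g ^ j * x * (g ^ j)⁻¹ := by
    intro j
    induction j with
    | zero => intro x; simp
    | succ j ih =>
      intro x
      rw [pow_succ', MulAut.mul_apply, hg', ih]
      group
  have hord : (orderOf (g ^ p ^ k)).Coprime p := by
    rw [orderOf_pow, hk, Nat.gcd_eq_right (Dvd.intro _ rfl),
      Nat.mul_div_cancel_left _ (pow_pos (Fact.out : p.Prime).pos k)]
    exact ((Nat.Prime.coprime_iff_not_dvd Fact.out).2 hm).symm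
  have hcent := hN _ (Subgroup.pow_mem _ hgN _) hord
  refine ⟨k, ?_⟩
  apply Subtype.ext
  show α ^ p ^ k = 1
  ext x
  rw [hpow]
  have h1 := Subgroup.mem_centralizer_iff.1 hcent x x.2
  show _ = (x : G)
  rw [← h1, mul_inv_cancel_right]

/-- **`O^p(G) ≠ G`.** -/
theorem pResidual_ne_top [Finite G] {p : ℕ} [Fact p.Prime] (hp : 5 ≤ p) (S : Sylow p G)
    (hS : (S : Subgroup G) ≠ ⊥)
    (hN : ∀ g ∈ Subgroup.normalizer ((S : Subgroup G) : Set G), (orderOf g).Coprime p →
      g ∈ Subgroup.centralizer ((S : Subgroup G) : Set G)) : Cfsg.pResidual p G ≠ ⊤ := by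
  intro htop
  have hsat : (groupFusionSystem (S : Subgroup G)).IsSaturated p :=
    groupFusionSystem_isSaturated S
  have hlt := S5252.result p S.isPGroup' (groupFusionSystem (S : Subgroup G)) hsat hp hS
    (isPGroup_aut (S : Subgroup G) hN)
  refine hlt.not_ge ?_
  refine le_trans ?_ (focalSubgroup_le (S : Subgroup G))
  rw [← Subgroup.commutator_inf_eq_focalSubgroup]
  refine le_inf ?_ le_rfl
  -- every element of `G` has image of order prime to `p`
  have hall : ∀ g : G, (orderOf (Abelianization.of g)).Coprime p := by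
    intro g
    have hg : g ∈ Cfsg.pResidual p G := by rw [htop]; exact Subgroup.mem_top g
    refine Subgroup.closure_induction
      (p := fun (g : G) _ => (orderOf (Abelianization.of g)).Coprime p) ?_ ?_ ?_ ?_ hg
    · intro x hx
      exact Nat.Coprime.coprime_dvd_left (orderOf_map_dvd _ x) hx
    · simp
    · intro x y _ _ hx hy
      rw [map_mul]
      refine Nat.Coprime.coprime_dvd_left (Commute.all _ _).orderOf_mul_dvd_lcm ?_
      exact Nat.Coprime.coprime_dvd_left (Nat.lcm_dvd_mul _ _) (Nat.Coprime.mul_left hx hy)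
    · intro x _ hx
      rw [map_inv, orderOf_inv]
      exact hx
  intro s hs
  rw [← Abelianization.ker_of, MonoidHom.mem_ker, ← orderOf_eq_one_iff]
  obtain ⟨k, hk⟩ := S.isPGroup'.exists_orderOf_eq_pow ⟨s, hs⟩
  have h1 : orderOf (Abelianization.of s) ∣ p ^ k := by
    rw [← hk, Subgroup.orderOf_mk]
    exact orderOf_map_dvd _ _
  exact Nat.eq_one_of_dvd_coprimes (((hall s).symm).pow_left k) h1 dvd_rfl

end Cfsg.Agent.H782.GroupFocal
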