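import Cfsg.Agent.H782.QdLocal
import Cfsg.Prelude.Def_FusionReduction
import Cfsg.Agent.H782.NormSys
import Cfsg.Agent.H771.ModelUnique
set_option linter.all false

-- part: H782/QdGroup
section
/-!
# Natural sections: finite groups and local models (helper782)

* `hasNat_groupFusionSystem_iff` : for a Sylow `p`-subgroup `P` of `G`, `F_P(G)` has a natural section iff `G` involves
  `Qd(p)`, every prime `p`;
* `hasNat_of_not_isSectionFree` : if `F` is not `Qd(p)`-free then it has a natural section;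
* `involves_of_isModel` : a model of a system with a natural section involves `Qd(p)`.
-/

set_option autoImplicit false

namespace Cfsg.Agent.H782.QdGroup

open Cfsg Cfsg.FusionSystem Cfsg.Agent.H802 Cfsg.Agent.H782.QdFus Cfsg.Agent.H782.QdLocal

universe u

theorem isRealizedBy_groupFusionSystem {G : Type*} [Group G] (S : Subgroup G) :
    (groupFusionSystem S).IsRealizedBy S.subtype := by
  refine ⟨S.subtype_injective, fun P hP φ hφ => ?_⟩
  constructor
  · rintro ⟨-, -, g, hg⟩
    exact ⟨g, hg⟩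
  · rintro ⟨g, hg⟩
    exact ⟨hP, hφ, g, hg⟩

theorem hasNat_groupFusionSystem_iff {G : Type*} [Group G] [Finite G] {p : ℕ} [Fact p.Prime]
    (P : Sylow p G) :
    HasNat p (groupFusionSystem (P : Subgroup G)) ↔ Cfsg.Involves ↥(Cfsg.qd p) G := by
  constructor
  · intro h
    exact Lib.Involves.involves_iff.1
      (involves_of_hasNat P.isPGroup' (isRealizedBy_groupFusionSystem _) h)
  · intro h
    exact hasNat_of_involves (isRealizedBy_groupFusionSystem _)
      ⟨P, (Subgroup.range_subtype _).symm⟩ (Lib.Involves.involves_iff.2 h)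

variable {Ω : Type u} [Group Ω] {S : Subgroup Ω}

theorem hasNat_of_not_isSectionFree {p : ℕ} [Fact p.Prime] {F : FusionSystem S}
    (h : ¬ F.IsSectionFree p ↥(Cfsg.qd p)) :
    ∃ Q : Subgroup Ω, F.IsFullyNormalized Q ∧ F.IsCentric Q ∧ HasNatAt p F Q := by
  unfold IsSectionFree at h
  push Not at h
  obtain ⟨Q, hQ, hQc, N, hN, L, hL, ι, ⟨hfin, hι, hT, -⟩, hinv⟩ := h
  exact ⟨Q, hQ, hQc, (hasNatAt_iff hN).1
    (hasNat_of_involves hι hT (Lib.Involves.involves_iff.2 hinv))⟩

/-- A model of a system with a natural section involves `Qd(p)`. -/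
theorem involves_of_isModel [Finite S] {p : ℕ} [Fact p.Prime] (hS : IsPGroup p S)
    {F : FusionSystem S} {L : Type*} [Group L] {ι : S →* L} (hM : F.IsModel p L ι)
    (h : HasNat p F) : Cfsg.Involves ↥(Cfsg.qd p) L := by
  obtain ⟨hfin, hι, -, -⟩ := hM
  exact Lib.Involves.involves_iff.1 (involves_of_hasNat hS hι h)

end Cfsg.Agent.H782.QdGroup
end

-- part: H782/QdIff
section
/-!
# `Qd(p)`-free saturated fusion systems (helper782)

`isSectionFree_qd_iff` : a saturated fusion system is `Qd(p)`-free iff it has no natural section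
(`HasNat`).
-/

set_option autoImplicit false

universe u

namespace Cfsg.Agent.H782.QdIff

open Cfsg Cfsg.FusionSystem Cfsg.Agent.H802 Cfsg.Agent.H782.QdFus Cfsg.Agent.H782.QdLocal
open Cfsg.Agent.H782.NormSys Cfsg.Agent.H782.QdGroup

variable {Ω : Type u} [Group Ω] {S : Subgroup Ω}

/-- A natural section at a fully normalized centric subgroup `Q` is visible in the model of `N_F(Q)`. -/
theorem exists_model_involves [Finite S] {p : ℕ} [Fact p.Prime] (hS : IsPGroup p S)
    {F : FusionSystem S} (hF : F.IsSaturated p) {Q : Subgroup Ω} (hQ : F.IsFullyNormalized Q)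
    (hQc : F.IsCentric Q) (h : HasNatAt p F Q) :
    ∃ N : FusionSystem (normalizerIn S Q), F.IsNormalizerSystem Q N ∧
      ∃ (L : Type u) (_ : Group L) (ι : ↥(normalizerIn S Q) →* L), N.IsModel p L ι ∧
        Cfsg.Involves ↥(Cfsg.qd p) L := by
  obtain ⟨N, hN⟩ := exists_normalizerSystem F hQ.1
  have hfin : Finite (normalizerIn S Q) := finite_of_le inf_le_left
  have hNp : IsPGroup p (normalizerIn S Q) := hS.to_le inf_le_left
  have hNs := normalizerSystem_isSaturated hS hF hQ hN
  obtain ⟨L, hL, ι, hι, -, -⟩ := H771.exists_model hNp hNs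
    (isNormal_of_isNormalizerSystem hQ.1 hN) (isCentric_of_isNormalizerSystem hQc hN)
  exact ⟨N, hN, L, hL, ι, hι, involves_of_isModel hNp hι ((hasNatAt_iff hN).2 h)⟩

theorem isSectionFree_of_radical [Finite S] {p : ℕ} [Fact p.Prime] (hS : IsPGroup p S)
    {F : FusionSystem S} (hF : F.IsSaturated p)
    (h : ∀ Q : Subgroup Ω, F.IsFullyNormalized Q → F.IsCentric Q → F.IsRadical p Q →
      ∀ N : FusionSystem (normalizerIn S Q), F.IsNormalizerSystem Q N →
        ∀ (L : Type u) [Group L] (ι : ↥(normalizerIn S Q) →* L), N.IsModel p L ι →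
          ¬ Cfsg.Involves ↥(Cfsg.qd p) L) : F.IsSectionFree p ↥(Cfsg.qd p) := by
  by_contra hn
  obtain ⟨Q, hQ, hQc, hQn⟩ := hasNat_of_not_isSectionFree hn
  obtain ⟨R, hR, hRc, hRr, hRn⟩ := exists_radical_hasNatAt hS hF hQ hQc hQn
  obtain ⟨N, hN, L, hL, ι, hι, hinv⟩ := exists_model_involves hS hF hR hRc hRn
  exact h R hR hRc hRr N hN L ι hι hinv

/-- **A saturated fusion system is `Qd(p)`-free iff it has no natural section.** -/
theorem isSectionFree_qd_iff [Finite S] {p : ℕ} [Fact p.Prime] (hS : IsPGroup p S)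
    {F : FusionSystem S} (hF : F.IsSaturated p) :
    F.IsSectionFree p ↥(Cfsg.qd p) ↔ ¬ HasNat p F := by
  constructor
  · intro h hn
    obtain ⟨Q, hQ, hQc, hQn⟩ := exists_hasNatAt_of_hasNat hS hF hn
    obtain ⟨N, hN, L, hL, ι, hι, hinv⟩ := exists_model_involves hS hF hQ hQc hQn
    exact h Q hQ hQc N hN L ι hι hinv
  · intro h
    by_contra hn
    obtain ⟨Q, hQ, hQc, hQn⟩ := hasNat_of_not_isSectionFree hn
    exact h hQn.hasNat

/-- `Qd(p)`-freeness passes to saturated subsystems (over any subgroup). -/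
theorem isSectionFree_qd_mono [Finite S] {p : ℕ} [Fact p.Prime] (hS : IsPGroup p S)
    {F : FusionSystem S} (hF : F.IsSaturated p) (h : F.IsSectionFree p ↥(Cfsg.qd p))
    {T : Subgroup Ω} {E : FusionSystem T} (hE : E.IsSaturated p) (hEF : E.IsSubsystemOf F) :
    E.IsSectionFree p ↥(Cfsg.qd p) := by
  have hT : T ≤ S := by
    have h1 := hEF T (subtype_mem E le_rfl)
    exact (F.le_of_mem h1).1
  have hfin : Finite T := finite_of_le hT
  rw [isSectionFree_qd_iff (hS.to_le hT) hE]
  rw [isSectionFree_qd_iff hS hF] at h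
  exact fun hn => h (hn.mono hEF)

/-- A model (or any finite group realizing the system on a Sylow subgroup) of a saturated `Qd(p)`-free fusion
system is `Qd(p)`-free. -/
theorem not_involves_of_isRealizedBy [Finite S] {p : ℕ} [Fact p.Prime] (hS : IsPGroup p S)
    {F : FusionSystem S} (hF : F.IsSaturated p) {G : Type*} [Group G] [Finite G] {ι : S →* G}
    (hι : F.IsRealizedBy ι) (hT : ∃ T : Sylow p G, (T : Subgroup G) = ι.range) :
    F.IsSectionFree p ↥(Cfsg.qd p) ↔ ¬ Cfsg.Involves ↥(Cfsg.qd p) G := by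
  rw [isSectionFree_qd_iff hS hF, not_iff_not]
  constructor
  · intro h
    exact Lib.Involves.involves_iff.1 (involves_of_hasNat hS hι h)
  · intro h
    exact hasNat_of_involves hι hT (Lib.Involves.involves_iff.2 h)

end Cfsg.Agent.H782.QdIff
end
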