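import Cfsg.Agent.H802.FusAlp
import Cfsg.Agent.H802.FusCentric
import Cfsg.Agent.H802.FusNorm
import Cfsg.Agent.H96.QdTI
import Mathlib.GroupTheory.Sylow
import Cfsg.Agent.H802.FusBasic
set_option linter.all false

-- part: H782/RadStep
section
/-!
# The radical step: `N_F(Q) ≤ N_F(Q₁)` with `Q₁ / Q = O_p(Out_F(Q))` (helper782)

* `isPGroup_inn_subgroupOf`, `inn_le_pCore` : `Inn(Q) ≤ O_p(Aut_F(Q))`;
* `exists_radical_step` : `F` saturated, `Q` fully normalized and centric but not radical: there is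
  `Q < Q₁ ≤ N_S(Q)` with `N_F(Q) ⊆ N_F(Q₁)` (maps in the sense of `normalizerHom`);
* `normalizerHom_transport` : transport of `normalizerHom` along a map `N_S(Q) → N_S(Q₂)` carrying `Q` to `Q₂`.
-/

set_option autoImplicit false

namespace Cfsg.Agent.H782.RadStep

open Cfsg Cfsg.FusionSystem Cfsg.Agent.H802

variable {Ω : Type*} [Group Ω] {S : Subgroup Ω}

theorem inn_le_autGroup (F : FusionSystem S) {Q : Subgroup Ω} (hQ : Q ≤ S) :
    Inn Q ≤ F.autGroup Q := by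
  rintro _ ⟨q, rfl⟩
  refine autInducedBy_le_autGroup F hQ ((mem_autInducedBy_iff S Q _).2 ⟨q, hQ q.2, fun x => ?_⟩)
  rfl

theorem inn_le_pCore {p : ℕ} (hS : IsPGroup p S) (F : FusionSystem S) {Q : Subgroup Ω}
    (hQ : Q ≤ S) : Inn Q ≤ (pCore p (F.autGroup Q)).map (F.autGroup Q).subtype := by
  have hle := inn_le_autGroup F hQ
  have hn : ((Inn Q).subgroupOf (F.autGroup Q)).Normal := by
    have : (Inn Q).Normal := innNormal Q
    exact this.subgroupOf _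
  have hp : IsPGroup p ((Inn Q).subgroupOf (F.autGroup Q)) := by
    have h1 : IsPGroup p (Inn Q) :=
      (hS.to_le hQ).of_surjective (MulAut.conj : Q →* MulAut Q).rangeRestrict
        (MulAut.conj : Q →* MulAut Q).rangeRestrict_surjective
    exact h1.comap_of_injective _ (Subgroup.subtype_injective _)
  intro α hα
  exact ⟨⟨α, hle hα⟩, (le_sSup (a := (Inn Q).subgroupOf (F.autGroup Q)) ⟨hn, hp⟩ :
    _ ≤ pCore p (F.autGroup Q)) hα, rfl⟩

/-- `O_p(A)` of a finite group is a `p`-group contained in every Sylow `p`-subgroup. -/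
theorem pCore_le_sylow {p : ℕ} [Fact p.Prime] {A : Type*} [Group A] [Finite A] (P : Sylow p A) :
    pCore p A ≤ P := by
  refine sSup_le ?_
  rintro N ⟨hN, hNp⟩
  obtain ⟨P', hP'⟩ := hNp.exists_le_sylow
  obtain ⟨g, rfl⟩ := MulAction.exists_smul_eq A P' P
  intro x hx
  have h1 : g⁻¹ * x * g⁻¹⁻¹ ∈ N := hN.conj_mem x hx g⁻¹
  have h2 := Subgroup.smul_mem_pointwise_smul (g⁻¹ * x * g⁻¹⁻¹) (MulAut.conj g)
    (P' : Subgroup A) (hP' h1)
  have h3 : (MulAut.conj g) • (g⁻¹ * x * g⁻¹⁻¹) = x := by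
    show g * (g⁻¹ * x * g⁻¹⁻¹) * g⁻¹ = x
    group
  rw [h3] at h2
  exact h2

theorem pCore_normal {p : ℕ} {A : Type*} [Group A] : (pCore p A).Normal := by
  refine Subgroup.sSup_normal _ ?_ 
  rintro N ⟨hN, -⟩
  exact hN

/-- The preimage in `N_S(Q)` of a subgroup of `Aut(Q)`. -/
def preim (S Q : Subgroup Ω) (O : Subgroup (MulAut Q)) : Subgroup Ω where
  carrier := {g | g ∈ S ∧ ∃ α ∈ O, ∀ x : Q, ((α x : Q) : Ω) = g * (x : Ω) * g⁻¹}
  one_mem' := ⟨S.one_mem, 1, O.one_mem, fun x => by simp⟩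
  mul_mem' := by
    rintro a b ⟨ha, α, hα, h1⟩ ⟨hb, β, hβ, h2⟩
    refine ⟨S.mul_mem ha hb, α * β, O.mul_mem hα hβ, fun x => ?_⟩
    rw [MulAut.mul_apply, h1, h2]
    group
  inv_mem' := by
    rintro a ⟨ha, α, hα, h1⟩
    refine ⟨S.inv_mem ha, α⁻¹, O.inv_mem hα, fun x => ?_⟩
    have h3 : α (α⁻¹ x) = x := α.apply_symm_apply x
    have h4 := h1 (α⁻¹ x)
    rw [h3] at h4
    rw [h4]
    group

theorem mem_preim {S Q : Subgroup Ω} {O : Subgroup (MulAut Q)} {g : Ω} :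
    g ∈ preim S Q O ↔ g ∈ S ∧ ∃ α ∈ O, ∀ x : Q, ((α x : Q) : Ω) = g * (x : Ω) * g⁻¹ := Iff.rfl

theorem preim_le {S Q : Subgroup Ω} {O : Subgroup (MulAut Q)} : preim S Q O ≤ normalizerIn S Q := by
  rintro g ⟨hg, α, -, h⟩
  exact ⟨hg, mem_normalizer_of_aut h⟩

theorem le_preim {S Q : Subgroup Ω} (hQ : Q ≤ S) {O : Subgroup (MulAut Q)} (hO : Inn Q ≤ O) :
    Q ≤ preim S Q O := fun g hg => ⟨hQ hg, MulAut.conj ⟨g, hg⟩, hO ⟨_, rfl⟩, fun _ => rfl⟩

/-- `N_S(Q)` normalises the preimage of a subgroup normalised by `Aut_S(Q)`. -/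
theorem le_normalizer_preim {S Q : Subgroup Ω} {O : Subgroup (MulAut Q)}
    (hO : ∀ β ∈ autInducedBy S Q, ∀ α ∈ O, β * α * β⁻¹ ∈ O) :
    normalizerIn S Q ≤ normalizerIn S (preim S Q O) := by
  intro g hg
  have key : ∀ g ∈ normalizerIn S Q, ∀ x ∈ preim S Q O, g * x * g⁻¹ ∈ preim S Q O := by
    rintro g hg x ⟨hx, α, hα, h⟩
    obtain ⟨β, hβ⟩ := exists_conjAut hg.2
    have hβm : β ∈ autInducedBy S Q := (mem_autInducedBy_iff S Q β).2 ⟨g, hg.1, hβ⟩
    refine ⟨S.mul_mem (S.mul_mem hg.1 hx) (S.inv_mem hg.1), β * α * β⁻¹, hO β hβm α hα,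
      fun y => ?_⟩
    have h3 : β (β⁻¹ y) = y := β.apply_symm_apply y
    have h4 := hβ (β⁻¹ y)
    rw [h3] at h4
    rw [MulAut.mul_apply, MulAut.mul_apply, hβ, h, h4]
    group
  refine ⟨hg.1, Subgroup.mem_normalizer_iff.2 fun x => ⟨key g hg x, fun hx => ?_⟩⟩
  have h1 := key g⁻¹ ((normalizerIn S Q).inv_mem hg) _ hx
  have e : g⁻¹ * (g * x * g⁻¹) * g⁻¹⁻¹ = x := by group
  rwa [e] at h1

/-- **The radical step.** -/
theorem exists_radical_step {p : ℕ} [Fact p.Prime] [Finite S] (hS : IsPGroup p S)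
    {F : FusionSystem S} (hF : F.IsSaturated p) {Q : Subgroup Ω} (hQ : F.IsFullyNormalized Q)
    (hQc : F.IsCentric Q) (hQr : ¬ F.IsRadical p Q) :
    ∃ Q₁ : Subgroup Ω, Q < Q₁ ∧ Q₁ ≤ normalizerIn S Q ∧ normalizerIn S Q ≤ normalizerIn S Q₁ ∧
      ∀ (P : Subgroup Ω), F.normalizerHom Q P ⊆ F.normalizerHom Q₁ P := by
  have hQS : Q ≤ S := hQ.1
  have hfinQ : Finite Q := finite_of_le hQS
  set O : Subgroup (MulAut Q) := (pCore p (F.autGroup Q)).map (F.autGroup Q).subtype with hO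
  have hInnO : Inn Q ≤ O := inn_le_pCore hS F hQS
  have hOn : ∀ β ∈ F.autGroup Q, ∀ α ∈ O, β * α * β⁻¹ ∈ O := by
    rintro β hβ _ ⟨α, hα, rfl⟩
    have hn : (pCore p (F.autGroup Q)).Normal := pCore_normal
    have h1 := hn.conj_mem α hα ⟨β, hβ⟩
    have h2 := Subgroup.mem_map_of_mem (F.autGroup Q).subtype h1
    rw [map_mul, map_mul, map_inv] at h2
    exact h2
  have hOS : O ≤ autInducedBy S Q := by
    obtain ⟨-, R, hR⟩ := isFullyAutomized_of_isFullyNormalized hS hF hQ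
    rintro _ ⟨α, hα, rfl⟩
    have h1 := pCore_le_sylow R hα
    have h2 : α ∈ (R : Subgroup (F.autGroup Q)) := h1
    rw [hR, Subgroup.mem_subgroupOf] at h2
    exact h2
  set Q₁ := preim S Q O with hQ₁
  have hQQ₁ : Q ≤ Q₁ := le_preim hQS hInnO
  have hQ₁N : Q₁ ≤ normalizerIn S Q := preim_le
  have hQ₁S : Q₁ ≤ S := hQ₁N.trans inf_le_left
  have hNN : normalizerIn S Q ≤ normalizerIn S Q₁ :=
    le_normalizer_preim (fun β hβ => hOn β (autInducedBy_le_autGroup F hQS hβ))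
  have hlt : Q < Q₁ := by
    refine lt_of_le_of_ne hQQ₁ (fun heq => hQr ⟨hQS, le_antisymm ?_ hInnO⟩)
    intro α hα
    obtain ⟨g, hg, h⟩ := (mem_autInducedBy_iff S Q α).1 (hOS hα)
    have hgQ : g ∈ Q := by
      rw [heq]
      exact ⟨hg, α, hα, h⟩
    refine ⟨⟨g, hgQ⟩, ?_⟩
    apply MulEquiv.ext
    intro x
    apply Subtype.ext
    rw [h]
    rfl
  refine ⟨Q₁, hlt, hQ₁N, hNN, ?_⟩
  rintro P φ ⟨hφ, hPN, hφN, ψ, hψ, hψφ, hψQ⟩
  refine ⟨hφ, hPN.trans hNN, fun x => hNN (hφN x), ?_⟩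
  -- the automorphism of `Q`
  have hQle : Q ≤ P ⊔ Q := le_sup_right
  have hψQmem : ∀ (x : Ω) (hx : x ∈ Q), ψ ⟨x, hQle hx⟩ ∈ Q := by
    intro x hx
    have h1 : ψ ⟨x, hQle hx⟩ ∈ (Q.subgroupOf (P ⊔ Q)).map ψ := ⟨⟨x, hQle hx⟩, hx, rfl⟩
    exact hψQ.le h1
  obtain ⟨β, hβF, hβ⟩ := exists_aut (restrict_mem hψ hQle)
    (range_eq_of_mapsTo (restrict_mem hψ hQle) (fun x => hψQmem x x.2))
  have hβ' : ∀ (x : Ω) (hx : x ∈ Q), ψ ⟨x, hQle hx⟩ = (β ⟨x, hx⟩ : Q) :=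
    fun x hx => (hβ ⟨x, hx⟩).symm
  have hβm := (mem_autGroup_iff F hQS β).1 hβF
  have hβr : (Q.subtype.comp β.toMonoidHom).range = Q :=
    range_eq_of_mapsTo hβm (fun x => (β x).2)
  obtain ⟨θ, hθ, hθe⟩ := (isReceptive_of_isFullyNormalized hS hF hQ).2 Q _ hβm hβr
  -- `P ⊔ Q₁ ≤ N_β`
  have hPE : P ⊔ Q ≤ extender S Q (Q.subtype.comp β.toMonoidHom) := by
    refine le_extender_of_extends (ψ := ψ) hQle (sup_le (hPN.trans inf_le_left) hQS)
      (sup_le (hPN.trans inf_le_right) Subgroup.le_normalizer) (hom_apply_mem hψ) ?_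
    intro x hx
    exact hβ' x hx
  have hQ₁E : Q₁ ≤ extender S Q (Q.subtype.comp β.toMonoidHom) := by
    rintro g ⟨hgS, α, hα, h⟩
    rw [mem_extender_iff]
    refine ⟨hgS, mem_normalizer_of_aut h, ?_⟩
    obtain ⟨k, hk, hk'⟩ := (mem_autInducedBy_iff S Q _).1 (hOS (hOn β hβF α hα))
    refine ⟨k, hk, fun x hx => ?_⟩
    have h1 := hk' (β x)
    rw [MulAut.mul_apply, MulAut.mul_apply] at h1
    have h2 : β⁻¹ (β x) = x := β.symm_apply_apply x
    rw [h2] at h1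
    show ((β ⟨g * x * g⁻¹, hx⟩ : Q) : Ω) = k * ((β x : Q) : Ω) * k⁻¹
    rw [← h1]
    congr 2
    exact Subtype.ext (h x).symm
  have hBE : P ⊔ Q₁ ≤ extender S Q (Q.subtype.comp β.toMonoidHom) :=
    sup_le (le_sup_left.trans hPE) hQ₁E
  have hQE : Q ≤ extender S Q (Q.subtype.comp β.toMonoidHom) := hQQ₁.trans hQ₁E
  have hθQ : ∀ (x : Ω) (hx : x ∈ Q), θ ⟨x, hQE hx⟩ = (β ⟨x, hx⟩ : Q) := fun x hx => hθe x hx _
  -- `θ` and `ψ` on `P ⊔ Q`
  obtain ⟨z, hzQ, hzC, hz⟩ := exists_conj_of_agree_on_centric hS hF hQc hQle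
    (restrict_mem hθ hPE) hψ (by
      intro x hx
      rw [hβ' x hx]
      exact hθQ x hx)
  have hPQl : P ≤ P ⊔ Q := le_sup_left
  have hQ₁B : Q₁ ≤ P ⊔ Q₁ := le_sup_right
  have hzB : z ∈ P ⊔ Q₁ := hQ₁B (hQQ₁ hzQ)
  have hBS : P ⊔ Q₁ ≤ S := sup_le (hPN.trans inf_le_left) hQ₁S
  have hconj : ∀ x : ↥(P ⊔ Q₁), conjHom (P ⊔ Q₁) z x ∈ P ⊔ Q₁ := fun x =>
    (P ⊔ Q₁).mul_mem ((P ⊔ Q₁).mul_mem hzB x.2) ((P ⊔ Q₁).inv_mem hzB)
  obtain ⟨χ, hχ, hχe⟩ := exists_comp (F.conj_mem hBS (hQS hzQ)) (restrict_mem hθ hBE) hconj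
  have hχ' : ∀ (x : Ω) (hx : x ∈ P ⊔ Q₁), χ ⟨x, hx⟩ = θ ⟨z * x * z⁻¹, hBE (hconj ⟨x, hx⟩)⟩ :=
    fun x hx => hχe ⟨x, hx⟩
  refine ⟨χ, hχ, ?_, ?_⟩
  · intro x
    have hxPQ : (x : Ω) ∈ P ⊔ Q := hPQl x.2
    have hzx : z * (x : Ω) * z⁻¹ ∈ P ⊔ Q :=
      (P ⊔ Q).mul_mem ((P ⊔ Q).mul_mem (hQle hzQ) hxPQ) ((P ⊔ Q).inv_mem (hQle hzQ))
    have h1 := hz ⟨x, hxPQ⟩ hzx
    have h2 := hψφ x
    show χ ⟨(x : Ω), _⟩ = φ x
    rw [hχ', ← h2]
    exact h1.symm
  · -- `χ(Q₁) = Q₁`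
    have hχQ : ∀ (x : Ω) (hx : x ∈ Q), χ ⟨x, hQ₁B (hQQ₁ hx)⟩ = (β ⟨x, hx⟩ : Q) := by
      intro x hx
      rw [hχ']
      have e : z * x * z⁻¹ = x := by
        rw [← Subgroup.mem_centralizer_iff.1 hzC x hx]
        group
      have e2 : (⟨z * x * z⁻¹, hBE (hconj ⟨x, hQ₁B (hQQ₁ hx)⟩)⟩ :
          extender S Q (Q.subtype.comp β.toMonoidHom)) = ⟨x, hQE hx⟩ := Subtype.ext e
      rw [e2]
      exact hθQ x hx
    have hmem : ∀ (g : Ω) (hg : g ∈ Q₁), χ ⟨g, hQ₁B hg⟩ ∈ Q₁ := by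
      intro g hg
      obtain ⟨hgS, α, hα, h⟩ := hg
      refine ⟨hom_apply_mem hχ _, β * α * β⁻¹, hOn β hβF α hα, fun x => ?_⟩
      have h3 : β (β⁻¹ x) = x := β.apply_symm_apply x
      rw [MulAut.mul_apply, MulAut.mul_apply]
      have hgx : g * ((β⁻¹ x : Q) : Ω) * g⁻¹ ∈ Q := by
        rw [← h]
        exact (α _).2
      have e1 : (α (β⁻¹ x) : Q) = ⟨g * ((β⁻¹ x : Q) : Ω) * g⁻¹, hgx⟩ := Subtype.ext (h _)
      have e2 := hχQ (g * ((β⁻¹ x : Q) : Ω) * g⁻¹) hgx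
      rw [e1, ← e2]
      have e3 : (⟨g * ((β⁻¹ x : Q) : Ω) * g⁻¹, hQ₁B (hQQ₁ hgx)⟩ : ↥(P ⊔ Q₁)) =
          ⟨g, hQ₁B ⟨hgS, α, hα, h⟩⟩ *
          ⟨((β⁻¹ x : Q) : Ω), hQ₁B (hQQ₁ (β⁻¹ x).2)⟩ *
          ⟨g, hQ₁B ⟨hgS, α, hα, h⟩⟩⁻¹ := rfl
      rw [e3, map_mul, map_mul, map_inv]
      have e4 := hχQ ((β⁻¹ x : Q) : Ω) (β⁻¹ x).2
      rw [e4]
      have e5 : (⟨((β⁻¹ x : Q) : Ω), (β⁻¹ x).2⟩ : Q) = β⁻¹ x := rfl
      rw [e5, h3]
    have hfin : Finite Q₁ := finite_of_le hQ₁S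
    refine Subgroup.eq_of_le_of_card_ge ?_ ?_
    · rintro _ ⟨⟨g, hg⟩, hg', rfl⟩
      exact hmem g hg'
    · have hle : Q₁ ≤ P ⊔ Q₁ := le_sup_right
      have h1 : Nat.card ((Q₁.subgroupOf (P ⊔ Q₁)).map χ) = Nat.card (Q₁.subgroupOf (P ⊔ Q₁)) :=
        Nat.card_congr ((Q₁.subgroupOf (P ⊔ Q₁)).equivMapOfInjective χ
          (F.injective_of_mem hχ)).symm.toEquiv
      rw [h1]
      exact (Nat.card_congr (Subgroup.subgroupOfEquivOfLe hle).toEquiv).ge

end Cfsg.Agent.H782.RadStep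
end

-- part: H782/QdNat
section
/-!
# `Qd(p)` is involved iff some `p`-subgroup has a natural section, every prime `p` (helper782)

* `qd_of_normal`, `exists_qd_section` : the versions of `PLocal.QdSection` for all primes `p` (for `p = 2` the
  extension is split by a Frattini argument with a Sylow 3-subgroup);
* `involves_iff` : a finite group `L` involves `Qd(p)` iff there are a `p`-subgroup `W`, `X ≤ N_L(W)`, `e : W →* V p` onto
  and `ρ : X →* SL(2, p)` onto with `e (x w x⁻¹) = ρ(x) e(w)`.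
-/

set_option autoImplicit false

namespace Cfsg.Agent.H782.QdNat

open Matrix Cfsg.Agent.Lib.Involves Cfsg.Agent.PLocal.QdSection Cfsg.Agent.H96.QdTI

/-- The splitting step: `z₀ ∈ SL(2,p)` an `r`-element, `r ≠ p`, without fixed points, generating a normal subgroup. -/
theorem qd_of_normal_gen {p r : ℕ} [Fact p.Prime] [Fact r.Prime] (hpr : p ≠ r) (z₀ : S2 p)
    (hz₀n : (Subgroup.zpowers z₀).Normal) (hz₀r : ∃ k : ℕ, orderOf z₀ = r ^ k)
    (hz₀f : ∀ v : V p, act z₀ v = v → v = 1) {Γ : Type*} [Group Γ] [Finite Γ]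
    (N : Subgroup Γ) [N.Normal] (hN : IsPGroup p N) (e : N →* V p) (he : Function.Surjective e)
    (ρ : Γ →* S2 p) (hρ : Function.Surjective ρ)
    (hc : ∀ (t : Γ) (n : N), e (MulAut.conjNormal t n) = act (ρ t) (e n)) :
    Lib.Involves.Involves Γ (Cfsg.qd p) := by
  classical
  have hr' : r.Prime := Fact.out
  -- `N` acts trivially
  have hNρ : ∀ n : N, ρ n = 1 := by
    intro n
    apply eq_one_of_act
    intro v
    obtain ⟨m, rfl⟩ := he v
    rw [← hc]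
    have : (MulAut.conjNormal (n : Γ) m : N) = n * m * n⁻¹ := by
      apply Subtype.ext
      simp [MulAut.conjNormal_apply]
    rw [this, map_mul, map_mul, map_inv, mul_comm (e n) (e m), mul_assoc, mul_inv_cancel, mul_one]
  -- an `r`-element above `z₀`
  obtain ⟨z, j, hz, hj, k, hzk⟩ : ∃ (z : Γ) (j : ℕ), ρ z = z₀ ^ j ∧ j.Coprime r ∧
      ∃ k : ℕ, orderOf z = r ^ k := by
    obtain ⟨y, hy⟩ := hρ z₀
    obtain ⟨k, m, hm, hkm⟩ := Nat.exists_eq_pow_mul_and_not_dvd (orderOf_pos y).ne' r hr'.ne_one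
    refine ⟨y ^ m, m, by rw [map_pow, hy], ?_, k, ?_⟩
    · exact ((Nat.Prime.coprime_iff_not_dvd hr').2 hm).symm
    · have hm0 : 0 < m := Nat.pos_of_ne_zero (fun h => hm (by rw [h]; exact dvd_zero _))
      rw [orderOf_pow, hkm, Nat.gcd_eq_right (Dvd.intro_left _ rfl),
        Nat.mul_div_cancel _ hm0]
  -- `z₀` is a power of `z₀ ^ j`
  obtain ⟨l, hl⟩ : ∃ l : ℕ, (z₀ ^ j) ^ l = z₀ := by
    obtain ⟨k', hk'⟩ := hz₀r
    have hcop : j.Coprime (orderOf z₀) := by rw [hk']; exact hj.pow_right _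
    have := (Nat.Coprime.orderOf_pow (y := z₀) (m := j) (by
      exact hcop.symm))
    obtain ⟨l, hl⟩ := exists_pow_eq_self_of_coprime (x := z₀) (n := j) hcop
    exact ⟨l, hl⟩
  set D : Subgroup Γ := (Subgroup.zpowers z₀).comap ρ with hD
  have hDn : D.Normal := hz₀n.comap ρ
  have hzD : z ∈ D := by
    rw [hD, Subgroup.mem_comap, hz]
    exact Subgroup.npow_mem_zpowers _ _
  have hzp : IsPGroup r (Subgroup.zpowers (⟨z, hzD⟩ : D)) := by
    apply IsPGroup.of_card (n := k)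
    rw [Nat.card_zpowers, ← hzk]
    exact orderOf_injective D.subtype D.subtype_injective ⟨z, hzD⟩ |>.symm
  obtain ⟨Q, hQ⟩ := hzp.exists_le_sylow
  set Q' : Subgroup Γ := (Q : Subgroup D).map D.subtype with hQ'
  have hzQ : z ∈ Q' :=
    ⟨⟨z, hzD⟩, hQ (Subgroup.mem_zpowers _), rfl⟩
  have hQ'p : IsPGroup r Q' := Q.isPGroup'.map D.subtype
  set R : Subgroup Γ := Subgroup.normalizer (Q' : Set Γ) with hR
  have hF : R ⊔ D = ⊤ := Sylow.normalizer_sup_eq_top Q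
  have hRρ : ∀ A : S2 p, ∃ r : R, ρ r = A := by
    intro A
    obtain ⟨t, rfl⟩ := hρ A
    have ht : t ∈ R ⊔ D := by rw [hF]; trivial
    obtain ⟨r, hr, d, hd, rfl⟩ := Subgroup.mem_sup_of_normal_right.1 ht
    obtain ⟨i, hi⟩ := Subgroup.mem_zpowers_iff.1 (Subgroup.mem_comap.1 hd)
    refine ⟨⟨r * (z ^ l) ^ i, R.mul_mem hr
      (R.zpow_mem (R.pow_mem (Subgroup.le_normalizer hzQ) l) i)⟩, ?_⟩
    change ρ (r * (z ^ l) ^ i) = _
    rw [map_mul, map_mul, map_zpow, map_pow, hz, hl, hi]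
  have hNR : ∀ n : N, (n : Γ) ∈ R → e n = 1 := by
    intro n hn
    have h1 : (n : Γ) * z * (n : Γ)⁻¹ ∈ Q' := (Subgroup.mem_normalizer_iff.1 hn z).1 hzQ
    have h2 : (n : Γ) * z * (n : Γ)⁻¹ * z⁻¹ ∈ Q' := Q'.mul_mem h1 (Q'.inv_mem hzQ)
    have h3 : (n : Γ) * (z * (n : Γ)⁻¹ * z⁻¹) ∈ N :=
      N.mul_mem n.2 (‹N.Normal›.conj_mem _ (N.inv_mem n.2) z)
    have h4 : (n : Γ) * z * (n : Γ)⁻¹ * z⁻¹ = (n : Γ) * (z * (n : Γ)⁻¹ * z⁻¹) := by group
    have hdisj : Disjoint N Q' := IsPGroup.disjoint_of_ne p r hpr N Q' hN hQ'p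
    have h5 : (n : Γ) * (z * (n : Γ)⁻¹ * z⁻¹) = 1 := by
      have := Subgroup.disjoint_def.1 hdisj h3 (h4 ▸ h2)
      exact this
    have h6 : MulAut.conjNormal z n = n := by
      apply Subtype.ext
      rw [MulAut.conjNormal_apply]
      have h7 : (z * (n : Γ)⁻¹ * z⁻¹) = (n : Γ)⁻¹ := by
        rw [← mul_right_inj (n : Γ), h5, mul_inv_cancel]
      have h8 := congrArg (·⁻¹) h7
      simpa [mul_assoc] using h8
    have h7 := hc z n
    rw [h6, hz] at h7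
    -- `z₀ ^ j` fixes `e n`, so does `z₀`
    have h8 : ∀ i : ℕ, act ((z₀ ^ j) ^ i) (e n) = e n := by
      intro i
      induction i with
      | zero => rw [pow_zero, act_one]
      | succ i ih => rw [pow_succ, act_mul, ← h7, ih]
    have h9 := h8 l
    rw [hl] at h9
    exact hz₀f _ h9
  -- the semidirect product
  let φ : R →* MulAut N := (MulAut.conjNormal (H := N)).comp R.subtype
  let f : N ⋊[φ] R →* Γ := SemidirectProduct.lift N.subtype R.subtype (by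
    intro r
    ext n
    simp [φ, MulAut.conjNormal_apply])
  let g : N ⋊[φ] R →* Matrix.SpecialLinearGroup (Fin 3) (ZMod p) :=
    SemidirectProduct.lift (transl.comp e) (diag.comp (ρ.comp R.subtype)) (by
    intro r
    refine MonoidHom.ext fun n => ?_
    have h1 : diag (ρ r) * transl (e n) = transl (act (ρ r) (e n)) * diag (ρ r) :=
      diag_mul_transl _ _
    have h2 : e (MulAut.conjNormal (r : Γ) n) = act (ρ r) (e n) := hc r n
    change transl (e (MulAut.conjNormal (r : Γ) n)) =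
      diag (ρ r) * transl (e n) * (diag (ρ r))⁻¹
    rw [h2, h1, mul_assoc, mul_inv_cancel, mul_one])
  have hgr : ∀ x, g x ∈ Cfsg.qd p := by
    intro x
    exact Subgroup.mul_mem _ (transl_mem_qd _) (diag_mem_qd _)
  let g' : N ⋊[φ] R →* Cfsg.qd p := g.codRestrict (Cfsg.qd p) hgr
  have hg' : Function.Surjective g' := by
    have hle : Cfsg.qd p ≤ g.range := by
      refine (Subgroup.closure_le _).2 ?_
      rintro M ⟨h0, h1, h2⟩
      obtain ⟨v, A, rfl⟩ := exists_of_row M h0 h1 h2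
      obtain ⟨n, rfl⟩ := he v
      obtain ⟨r, rfl⟩ := hRρ A
      exact ⟨⟨n, r⟩, rfl⟩
    rintro ⟨M, hM⟩
    obtain ⟨x, hx⟩ := hle hM
    exact ⟨x, Subtype.ext hx⟩
  refine of_ker_le f g' hg' ?_
  intro x hx
  have hx1 : (x.left : Γ) * (x.right : Γ) = 1 := hx
  have hx2 : (x.left : Γ) = (x.right : Γ)⁻¹ := eq_inv_of_mul_eq_one_left hx1
  have hx3 : e x.left = 1 := hNR x.left (by rw [hx2]; exact R.inv_mem x.right.2)
  have hx4 : ρ x.right = 1 := by
    have : (x.right : Γ) = ((x.left)⁻¹ : N) := by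
      rw [eq_comm, Subgroup.coe_inv, hx2, inv_inv]
    rw [this]
    exact hNρ _
  rw [MonoidHom.mem_ker]
  apply Subtype.ext
  change transl (e x.left) * diag (ρ x.right) = 1
  rw [hx3, hx4, map_one, map_one, mul_one]

/-- The element of order three of `SL(2,2)`. -/
def z3 : S2 2 := ⟨!![0, 1; 1, 1], by decide⟩

theorem z3_normal : (Subgroup.zpowers z3).Normal := by
  refine ⟨fun a ha g => ?_⟩
  obtain ⟨i, rfl⟩ := Subgroup.mem_zpowers_iff.1 ha
  have h : ∀ g : S2 2, g * z3 * g⁻¹ = z3 ∨ g * z3 * g⁻¹ = z3⁻¹ := by decide +kernel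
  have h2 : g * z3 ^ i * g⁻¹ = (g * z3 * g⁻¹) ^ i := by
    rw [conj_zpow]
  rw [h2]
  rcases h g with h | h
  · rw [h]
    exact Subgroup.zpow_mem_zpowers _ _
  · rw [h, _root_.inv_zpow]
    exact Subgroup.inv_mem _ (Subgroup.zpow_mem_zpowers _ _)

theorem z3_order : orderOf z3 = 3 := by
  have : Fact (Nat.Prime 3) := ⟨Nat.prime_three⟩
  refine orderOf_eq_prime ?_ ?_
  · decide +kernel
  · decide +kernel

theorem z3_fix (v : V 2) (h : act z3 v = v) : v = 1 := by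
  have h0 := congrArg Multiplicative.toAdd h
  simp only [act, toAdd_ofAdd] at h0
  have h00 := congrFun h0 0
  have h01 := congrFun h0 1
  simp [z3, Matrix.mulVec, dotProduct, Fin.sum_univ_two] at h00 h01
  apply Multiplicative.toAdd.injective
  ext i
  fin_cases i
  · exact h01
  · show (Multiplicative.toAdd v) 1 = 0
    rw [h00]
    exact h01

theorem neg_one_fix {p : ℕ} [Fact p.Prime] (hp : p ≠ 2) (v : V p) (h : act (-1) v = v) :
    v = 1 := by
  rw [act_neg_one] at h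
  have h8 : v ^ 2 = 1 := by
    rw [pow_two]
    nth_rewrite 1 [← h]
    exact inv_mul_cancel _
  have h9 : (2 : ZMod p) ≠ 0 := two_ne hp
  apply Multiplicative.toAdd.injective
  have h10 := congrArg Multiplicative.toAdd h8
  rw [toAdd_pow, toAdd_one] at h10
  rw [toAdd_one]
  ext i
  have h11 := congrFun h10 i
  simp only [nsmul_eq_mul, Nat.cast_ofNat, Pi.mul_apply, Pi.zero_apply] at h11
  rcases mul_eq_zero.1 h11 with h | h
  · exact absurd h (by simpa using h9)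
  · exact h

/-- The splitting step for all primes. -/
theorem qd_of_normal {p : ℕ} [Fact p.Prime] {Γ : Type*} [Group Γ] [Finite Γ]
    (N : Subgroup Γ) [N.Normal] (hN : IsPGroup p N) (e : N →* V p) (he : Function.Surjective e)
    (ρ : Γ →* S2 p) (hρ : Function.Surjective ρ)
    (hc : ∀ (t : Γ) (n : N), e (MulAut.conjNormal t n) = act (ρ t) (e n)) :
    Lib.Involves.Involves Γ (Cfsg.qd p) := by
  by_cases hp : p = 2
  · subst hp
    have : Fact (Nat.Prime 3) := ⟨Nat.prime_three⟩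
    exact qd_of_normal_gen (r := 3) (by norm_num) z3 z3_normal ⟨1, by rw [z3_order, pow_one]⟩
      z3_fix N hN e he ρ hρ hc
  · exact PLocal.QdSection.qd_of_normal hp N hN e he ρ hρ hc

/-- **Natural section to `Qd(p)`-section.** -/
theorem exists_qd_section {p : ℕ} [Fact p.Prime] {T W K : Type*} [Group T] [Finite T]
    [Group W] [Group K] (i : W →* T) (hi : Function.Injective i) (hW : IsPGroup p W) (j : K →* T)
    (a : K → W → W) (ha : ∀ k w, i (a k w) = j k * i w * (j k)⁻¹) (e : W →* V p)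
    (he : Function.Surjective e) (σ : K →* S2 p) (hσ : Function.Surjective σ)
    (hc : ∀ k w, e (a k w) = act (σ k) (e w)) : Lib.Involves.Involves T (Cfsg.qd p) := by
  have hp' : p.Prime := Fact.out
  -- the graph
  let Γ : Subgroup (T × S2 p) :=
    { carrier := {g | g.1 ∈ Subgroup.normalizer (i.range : Set T) ∧
        ∀ w w' : W, i w' = g.1 * i w * g.1⁻¹ → e w' = act g.2 (e w)}
      mul_mem' := by
        rintro ⟨t₁, A₁⟩ ⟨t₂, A₂⟩ ⟨h1, h1'⟩ ⟨h2, h2'⟩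
        refine ⟨Subgroup.mul_mem _ h1 h2, ?_⟩
        intro w w' hw
        obtain ⟨w'', hw''⟩ : t₂ * i w * t₂⁻¹ ∈ i.range :=
          (Subgroup.mem_normalizer_iff.1 h2 (i w)).1 ⟨w, rfl⟩
        change i w' = (t₁ * t₂) * i w * (t₁ * t₂)⁻¹ at hw
        change e w' = act (A₁ * A₂) (e w)
        rw [act_mul, ← h2' w w'' hw'']
        apply h1' w'' w'
        change i w' = t₁ * i w'' * t₁⁻¹
        rw [hw, hw'']
        group
      one_mem' := by
        refine ⟨Subgroup.one_mem _, ?_⟩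
        intro w w' hw
        change i w' = 1 * i w * 1⁻¹ at hw
        change e w' = act 1 (e w)
        rw [one_mul, inv_one, mul_one] at hw
        rw [hi hw, act_one]
      inv_mem' := by
        rintro ⟨t, A⟩ ⟨h1, h1'⟩
        refine ⟨Subgroup.inv_mem _ h1, ?_⟩
        intro w w' hw
        change i w' = t⁻¹ * i w * t⁻¹⁻¹ at hw
        change e w' = act A⁻¹ (e w)
        apply act_inv_eq
        apply h1' w' w
        change i w = t * i w' * t⁻¹
        rw [hw]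
        group }
  have hmem : ∀ g : T × S2 p, g ∈ Γ ↔ (g.1 ∈ Subgroup.normalizer (i.range : Set T) ∧
        ∀ w w' : W, i w' = g.1 * i w * g.1⁻¹ → e w' = act g.2 (e w)) := fun g => Iff.rfl
  let pr : Γ →* T := (MonoidHom.fst T (S2 p)).comp Γ.subtype
  let ρ : Γ →* S2 p := (MonoidHom.snd T (S2 p)).comp Γ.subtype
  have hpr : Function.Injective pr := by
    rw [injective_iff_map_eq_one]
    rintro ⟨⟨t, A⟩, h1, h2⟩ ht
    change t = 1 at ht
    subst ht
    have hA : A = 1 := by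
      apply eq_one_of_act
      intro v
      obtain ⟨w, rfl⟩ := he v
      exact (h2 w w (by simp)).symm
    subst hA
    rfl
  have : Finite Γ := Finite.of_injective pr hpr
  have hρ : Function.Surjective ρ := by
    intro A
    obtain ⟨k, rfl⟩ := hσ A
    refine ⟨⟨(j k, σ k), ?_, ?_⟩, rfl⟩
    · rw [Subgroup.mem_normalizer_iff]
      intro x
      constructor
      · rintro ⟨w, rfl⟩
        exact ⟨a k w, ha k w⟩
      · rintro ⟨w, hw⟩
        refine ⟨a k⁻¹ w, ?_⟩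
        rw [ha, map_inv, hw]
        group
    · intro w w' hw
      change i w' = j k * i w * (j k)⁻¹ at hw
      rw [← ha] at hw
      rw [hi hw]
      exact hc k w
  have hι : ∀ w : W, (i w, (1 : S2 p)) ∈ Γ := by
    intro w
    refine ⟨Subgroup.le_normalizer ⟨w, rfl⟩, ?_⟩
    intro w₁ w' hw
    change i w' = i w * i w₁ * (i w)⁻¹ at hw
    rw [← map_mul, ← map_inv, ← map_mul] at hw
    change e w' = act 1 (e w₁)
    rw [hi hw, act_one, map_mul, map_mul, map_inv, mul_comm (e w), mul_assoc, mul_inv_cancel,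
      mul_one]
  let ι : W →* Γ :=
    { toFun := fun w => ⟨(i w, 1), hι w⟩
      map_one' := by
        apply Subtype.ext
        change (i 1, (1 : S2 p)) = 1
        rw [map_one]
        rfl
      map_mul' := fun w₁ w₂ => by
        apply Subtype.ext
        change (i (w₁ * w₂), (1 : S2 p)) = (i w₁ * i w₂, 1 * 1)
        rw [map_mul, one_mul] }
  have hιinj : Function.Injective ι := by
    intro w₁ w₂ h
    apply hi
    exact congrArg (fun x : Γ => x.1.1) h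
  have hconj : ∀ (t : Γ) (w : W), ∃ w' : W, ι w' = t * ι w * t⁻¹ ∧ e w' = act (ρ t) (e w) := by
    rintro ⟨⟨t, A⟩, h1, h2⟩ w
    obtain ⟨w', hw'⟩ : t * i w * t⁻¹ ∈ i.range :=
      (Subgroup.mem_normalizer_iff.1 h1 (i w)).1 ⟨w, rfl⟩
    refine ⟨w', ?_, h2 w w' hw'⟩
    apply Subtype.ext
    change (i w', (1 : S2 p)) = (t * i w * t⁻¹, A * 1 * A⁻¹)
    rw [hw', mul_one, mul_inv_cancel]
  have hn : ι.range.Normal := by
    refine ⟨?_⟩
    rintro _ ⟨w, rfl⟩ t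
    obtain ⟨w', hw', -⟩ := hconj t w
    exact ⟨w', hw'⟩
  let ε : W ≃* ι.range := MonoidHom.ofInjective hιinj
  have hε : ∀ w, ((ε w : ι.range) : Γ) = ι w := fun w => rfl
  refine trans (of_injective pr hpr)
    (qd_of_normal ι.range (hW.of_surjective ε.toMonoidHom ε.surjective)
      (e.comp ε.symm.toMonoidHom) (he.comp ε.symm.surjective) ρ hρ ?_)
  intro t n
  obtain ⟨w, rfl⟩ := ε.surjective n
  obtain ⟨w', hw', hw2⟩ := hconj t w
  have h1 : MulAut.conjNormal t (ε w) = ε w' := by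
    apply Subtype.ext
    rw [MulAut.conjNormal_apply, hε, hε, hw']
  rw [h1]
  change e (ε.symm (ε w')) = act (ρ t) (e (ε.symm (ε w)))
  rw [MulEquiv.symm_apply_apply, MulEquiv.symm_apply_apply, hw2]


/-- The linear part of an element of `Qd(p)`. -/
theorem exists_linPart (p : ℕ) : ∃ δ : ↥(Cfsg.qd p) →* S2 p,
    ∀ (v : V p) (A : S2 p) (h : transl v * diag A ∈ Cfsg.qd p), δ ⟨transl v * diag A, h⟩ = A := by
  have huniq : ∀ (v w : V p) (A B : S2 p), transl v * diag A = transl w * diag B → A = B := by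
    intro v w A B h
    have h1 := congrArg Subtype.val h
    apply Subtype.ext
    ext i j
    have h2 := congrFun (congrFun h1 (Fin.castSucc i)) (Fin.castSucc j)
    fin_cases i <;> fin_cases j <;>
      simpa [transl_apply, PLocal.QdSection.diag_apply, Matrix.mul_apply, Fin.sum_univ_three]
        using h2
  choose v A hvA using fun g : ↥(Cfsg.qd p) => row_of_mem_qd g.2
  refine ⟨MonoidHom.mk' A ?_, ?_⟩
  · intro g h
    have h1 : transl (v g * act (A g) (v h)) * diag (A g * A h) =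
        transl (v (g * h)) * diag (A (g * h)) := by
      rw [← hvA (g * h)]
      show _ = (g : Matrix.SpecialLinearGroup (Fin 3) (ZMod p)) * h
      rw [hvA g, hvA h, map_mul, map_mul]
      calc transl (v g) * transl (act (A g) (v h)) * (diag (A g) * diag (A h)) =
          transl (v g) * (transl (act (A g) (v h)) * diag (A g)) * diag (A h) := by group
        _ = transl (v g) * (diag (A g) * transl (v h)) * diag (A h) := by rw [← diag_mul_transl]
        _ = _ := by group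
    exact (huniq _ _ _ _ h1).symm
  · intro w B h
    exact (huniq _ _ _ _ (hvA ⟨transl w * diag B, h⟩)).symm

theorem transl_injective (p : ℕ) : Function.Injective (transl (p := p)) := by
  intro v w h
  have h1 := congrArg Subtype.val h
  rw [transl_apply, transl_apply] at h1
  apply Multiplicative.toAdd.injective
  ext i
  have h2 := congrFun (congrFun h1 (Fin.castSucc i)) 2
  fin_cases i <;> simpa using h2

/-- **`Qd(p)`-section to natural section.** -/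
theorem exists_natural_of_involves {p : ℕ} [Fact p.Prime] {L : Type*} [Group L] [Finite L]
    (h : Lib.Involves.Involves L ↥(Cfsg.qd p)) :
    ∃ (W X : Subgroup L) (_ : IsPGroup p W) (_ : X ≤ Subgroup.normalizer (W : Set L))
      (e : W →* V p) (ρ : X →* S2 p), Function.Surjective e ∧ Function.Surjective ρ ∧
      ∀ (x : X) (w w' : W), (w' : L) = x * w * (x : L)⁻¹ → e w' = act (ρ x) (e w) := by
  classical
  obtain ⟨H, f, hf⟩ := h
  obtain ⟨δ, hδ⟩ := exists_linPart p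
  have hTn := T_normal p
  set M : Subgroup H := (T p).comap f with hM
  have hMn : M.Normal := hTn.comap f
  obtain ⟨P₀⟩ : Nonempty (Sylow p M) := inferInstance
  -- the image of `P₀` is `T`
  let fM : M →* T p := (f.comp M.subtype).codRestrict (T p) (fun x => x.2)
  have hfM : Function.Surjective fM := by
    rintro ⟨t, ht⟩
    obtain ⟨x, rfl⟩ := hf t
    exact ⟨⟨x, ht⟩, rfl⟩
  have hP₀ : ∀ t : T p, ∃ x : P₀, fM x = t := by
    have h1 : ((P₀.mapSurjective hfM : Sylow p (T p)) : Subgroup (T p)) = ⊤ := by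
      have hT : IsPGroup p (⊤ : Subgroup (T p)) := (T_pgroup p).to_subgroup ⊤
      exact ((P₀.mapSurjective hfM : Sylow p (T p)).is_maximal' hT le_top).symm
    intro t
    have h2 : t ∈ ((P₀.mapSurjective hfM : Sylow p (T p)) : Subgroup (T p)) := by
      rw [h1]; trivial
    obtain ⟨x, hx, hxt⟩ := h2
    exact ⟨⟨x, hx⟩, hxt⟩
  -- the translation part
  have htr : ∀ t : T p, ∃ v : V p, translHom p v = t := fun t => t.2
  choose τ hτ using htr
  have hτm : ∀ s t : T p, τ (s * t) = τ s * τ t := by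
    intro s t
    apply transl_injective p
    have h1 := congrArg Subtype.val (hτ (s * t))
    have h2 := congrArg Subtype.val (hτ s)
    have h3 := congrArg Subtype.val (hτ t)
    have h4 : transl (τ (s * t)) = ((s * t : T p) : ↥(Cfsg.qd p)).1 := h1
    have h5 : transl (τ s) = (s : ↥(Cfsg.qd p)).1 := h2
    have h6 : transl (τ t) = (t : ↥(Cfsg.qd p)).1 := h3
    rw [h4, map_mul, h5, h6]
    rfl
  let τh : T p →* V p := MonoidHom.mk' τ hτm
  -- `W` and `X`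
  set PH : Subgroup H := (P₀ : Subgroup M).map M.subtype with hPH
  set W : Subgroup L := PH.map H.subtype with hW
  set XH : Subgroup H := Subgroup.normalizer (PH : Set H) with hXH
  set X : Subgroup L := XH.map H.subtype with hX
  have hF : XH ⊔ M = ⊤ := Sylow.normalizer_sup_eq_top P₀
  have hWH : ∀ w : W, (w : L) ∈ H := by
    rintro ⟨_, ⟨w, -, rfl⟩⟩
    exact w.2
  have hXHm : ∀ x : X, (x : L) ∈ H := by
    rintro ⟨_, ⟨w, -, rfl⟩⟩
    exact w.2
  have hWPH : ∀ w : W, (⟨w, hWH w⟩ : H) ∈ PH := by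
    rintro ⟨_, ⟨w, hw, rfl⟩⟩
    exact hw
  have hXXH : ∀ x : X, (⟨x, hXHm x⟩ : H) ∈ XH := by
    rintro ⟨_, ⟨w, hw, rfl⟩⟩
    exact hw
  have hPHM : ∀ w ∈ PH, f w ∈ T p := by
    rintro _ ⟨w, -, rfl⟩
    exact w.2
  let e : W →* V p := τh.comp ((f.comp (Subgroup.inclusion
    (show W ≤ H from fun w hw => hWH ⟨w, hw⟩))).codRestrict (T p) (fun w => hPHM _ (hWPH w)))
  let ρ : X →* S2 p := δ.comp (f.comp (Subgroup.inclusion
    (show X ≤ H from fun x hx => hXHm ⟨x, hx⟩)))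
  have hetr : ∀ w : W, translHom p (e w) = f ⟨w, hWH w⟩ := fun w => hτ _
  refine ⟨W, X, ?_, ?_, e, ρ, ?_, ?_, ?_⟩
  · exact (P₀.isPGroup'.map M.subtype).map H.subtype
  · rintro _ ⟨x, hx, rfl⟩
    rw [Subgroup.mem_normalizer_iff]
    intro w
    constructor
    · rintro ⟨w, hw, rfl⟩
      exact ⟨x * w * x⁻¹, (Subgroup.mem_normalizer_iff.1 hx w).1 hw, rfl⟩
    · rintro ⟨y, hy, hyw⟩
      refine ⟨x⁻¹ * y * x⁻¹⁻¹, (Subgroup.mem_normalizer_iff.1 (XH.inv_mem hx) y).1 hy, ?_⟩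
      rw [inv_inv, map_mul, map_mul, hyw, map_inv]
      group
  · intro v
    obtain ⟨x, hx⟩ := hP₀ ⟨translHom p v, ⟨v, rfl⟩⟩
    refine ⟨⟨((x : M) : H), ⟨_, ⟨x, x.2, rfl⟩, rfl⟩⟩, ?_⟩
    apply transl_injective p
    have h1 := congrArg Subtype.val (hetr ⟨((x : M) : H), ⟨_, ⟨x, x.2, rfl⟩, rfl⟩⟩)
    have h2 := congrArg Subtype.val (congrArg Subtype.val hx)
    exact h1.trans h2
  · intro A
    obtain ⟨h, hh⟩ := hf ⟨transl 1 * PLocal.QdSection.diag A, Subgroup.mul_mem _ (transl_mem_qd _) (diag_mem_qd _)⟩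
    have hh2 : h ∈ XH ⊔ M := by rw [hF]; trivial
    obtain ⟨x, hx, m, hm, rfl⟩ := Subgroup.mem_sup_of_normal_right.1 hh2
    refine ⟨⟨x, ⟨x, hx, rfl⟩⟩, ?_⟩
    show δ (f x) = A
    have h3 : δ (f m) = 1 := by
      obtain ⟨v, hv⟩ : f m ∈ T p := hm
      have h4 : f m = ⟨transl v * PLocal.QdSection.diag 1, Subgroup.mul_mem _ (transl_mem_qd _) (diag_mem_qd _)⟩ := by
        rw [← hv]
        apply Subtype.ext
        show transl v = transl v * PLocal.QdSection.diag 1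
        rw [map_one, mul_one]
      rw [h4]
      exact hδ _ _ _
    have h5 := hδ 1 A (Subgroup.mul_mem _ (transl_mem_qd _) (diag_mem_qd _))
    rw [← hh, map_mul, map_mul, h3, mul_one] at h5
    exact h5
  · intro x w w' hww
    apply transl_injective p
    have h1 : (translHom p (e w')).1 = (f ⟨w', hWH w'⟩).1 := congrArg Subtype.val (hetr w')
    have h2 : (translHom p (e w)).1 = (f ⟨w, hWH w⟩).1 := congrArg Subtype.val (hetr w)
    have h3 : (⟨w', hWH w'⟩ : H) = ⟨x, hXHm x⟩ * ⟨w, hWH w⟩ * ⟨x, hXHm x⟩⁻¹ := Subtype.ext hww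
    obtain ⟨v, A, hvA⟩ := row_of_mem_qd (f ⟨x, hXHm x⟩).2
    have hρx : ρ x = A := by
      show δ (f ⟨x, hXHm x⟩) = A
      have : f ⟨x, hXHm x⟩ =
        ⟨transl v * diag A, Subgroup.mul_mem _ (transl_mem_qd _) (diag_mem_qd _)⟩ := Subtype.ext hvA
      rw [this]
      exact hδ _ _ _
    rw [hρx]
    show (translHom p (e w')).1 = transl (act A (e w))
    rw [h1, h3, map_mul, map_mul, map_inv]
    show (f ⟨x, hXHm x⟩).1 * (f ⟨w, hWH w⟩).1 * ((f ⟨x, hXHm x⟩).1)⁻¹ = _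
    rw [hvA, ← h2]
    show transl v * diag A * transl (e w) * (transl v * diag A)⁻¹ = _
    have h6 : transl v * transl (act A (e w)) = transl (act A (e w)) * transl v := by
      rw [← map_mul, ← map_mul, mul_comm]
    calc transl v * diag A * transl (e w) * (transl v * diag A)⁻¹
        = transl v * (diag A * transl (e w)) * (diag A)⁻¹ * (transl v)⁻¹ := by group
      _ = transl v * (transl (act A (e w)) * diag A) * (diag A)⁻¹ * (transl v)⁻¹ := by
          rw [← diag_mul_transl]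
      _ = (transl v * transl (act A (e w))) * (transl v)⁻¹ := by group
      _ = transl (act A (e w)) := by rw [h6]; group

end Cfsg.Agent.H782.QdNat
end

-- part: H782/QdFus
section
/-!
# Natural sections of fusion systems and `Qd(p)` (helper782)

* `HasNat p F` : some `R ≤ S`, `K ≤ Aut_F(R)`, `e : R →* V p` onto, `ρ : K →* SL(2,p)` onto, `e (α x) = ρ(α) e(x)`;
* `hasNat_of_involves`, `involves_of_hasNat` : for `F` realized by a finite group `L` on a Sylow `p`-subgroup,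
  `HasNat p F` iff `L` involves `Qd(p)`, for every prime `p`.
-/

set_option autoImplicit false

namespace Cfsg.Agent.H782.QdFus

open Cfsg Cfsg.FusionSystem Cfsg.Agent.H802 Cfsg.Agent.PLocal.QdSection

variable {Ω : Type*} [Group Ω] {S : Subgroup Ω}

/-- A subgroup `R` of `S` with a natural section for a group of automorphisms of `R` belonging to the system. -/
def HasNat (p : ℕ) (F : FusionSystem S) : Prop :=
  ∃ (R : Subgroup Ω) (_ : R ≤ S) (K : Subgroup (MulAut R)) (_ : K ≤ F.autGroup R) (e : R →* V p)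
    (ρ : K →* S2 p), Function.Surjective e ∧ Function.Surjective ρ ∧
      ∀ (α : K) (x : R), e ((α : MulAut R) x) = act (ρ α) (e x)

/-- If `F` is realized by a finite group `L` and `F` has a natural section, then `L` involves `Qd(p)`. -/
theorem involves_of_hasNat {p : ℕ} [Fact p.Prime] (hS : IsPGroup p S) {F : FusionSystem S}
    {L : Type*} [Group L] [Finite L] {ι : S →* L} (hι : F.IsRealizedBy ι) (h : HasNat p F) :
    Lib.Involves.Involves L ↥(Cfsg.qd p) := by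
  obtain ⟨R, hR, K, hK, e, ρ, he, hρ, hc⟩ := h
  let ιR : R →* L := ι.comp (Subgroup.inclusion hR)
  have hιR : Function.Injective ιR := hι.1.comp (Subgroup.inclusion_injective hR)
  -- the graph
  let Γ : Subgroup (L × K) :=
    { carrier := {g | ∀ y : R, ιR ((g.2 : MulAut R) y) = g.1 * ιR y * g.1⁻¹}
      one_mem' := fun y => by
        show ιR y = 1 * ιR y * 1⁻¹
        rw [one_mul, inv_one, mul_one]
      mul_mem' := by
        rintro ⟨a, α⟩ ⟨b, β⟩ h1 h2 y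
        show ιR ((α : MulAut R) ((β : MulAut R) y)) = (a * b) * ιR y * (a * b)⁻¹
        have e1 := h1 ((β : MulAut R) y)
        have e2 := h2 y
        change ιR ((α : MulAut R) ((β : MulAut R) y)) = a * ιR ((β : MulAut R) y) * a⁻¹ at e1
        change ιR ((β : MulAut R) y) = b * ιR y * b⁻¹ at e2
        rw [e1, e2]
        group
      inv_mem' := by
        rintro ⟨a, α⟩ h1 y
        show ιR ((α : MulAut R)⁻¹ y) = a⁻¹ * ιR y * a⁻¹⁻¹
        have e1 := h1 ((α : MulAut R)⁻¹ y)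
        change ιR ((α : MulAut R) ((α : MulAut R)⁻¹ y)) = a * ιR ((α : MulAut R)⁻¹ y) * a⁻¹ at e1
        have e2 : (α : MulAut R) ((α : MulAut R)⁻¹ y) = y := (α : MulAut R).apply_symm_apply y
        rw [e2] at e1
        rw [e1]
        group }
  let j : Γ →* L := (MonoidHom.fst L K).comp Γ.subtype
  let sn : Γ →* K := (MonoidHom.snd L K).comp Γ.subtype
  have hsn : Function.Surjective sn := by
    intro α
    have hα := (mem_autGroup_iff F hR _).1 (hK α.2)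
    obtain ⟨g, hg⟩ := (hι.2 R hR _ (fun x => hR ((α : MulAut R) x).2)).1 hα
    exact ⟨⟨(g, α), fun y => hg y⟩, rfl⟩
  exact QdNat.exists_qd_section (T := L) (W := R) (K := Γ) ιR hιR (hS.to_le hR) j
    (fun k w => ((sn k : K) : MulAut R) w) (fun k w => k.2 w) e he (ρ.comp sn) (hρ.comp hsn)
    (fun k w => hc (sn k) w)

/-- If `F` is realized by a finite group `L` on a Sylow `p`-subgroup and `L` involves `Qd(p)`, then `F` has a natural
section. -/
theorem hasNat_of_involves {p : ℕ} [Fact p.Prime] {F : FusionSystem S}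
    {L : Type*} [Group L] [Finite L] {ι : S →* L} (hι : F.IsRealizedBy ι)
    (hT : ∃ T : Sylow p L, (T : Subgroup L) = ι.range)
    (h : Lib.Involves.Involves L ↥(Cfsg.qd p)) : HasNat p F := by
  classical
  obtain ⟨T, hT⟩ := hT
  obtain ⟨W, X, hW, hX, e, ρ, he, hρ, hc⟩ := QdNat.exists_natural_of_involves h
  obtain ⟨T', hT'⟩ := hW.exists_le_sylow
  obtain ⟨g, hg⟩ := MulAction.exists_smul_eq L T' T
  have hWg : ∀ w ∈ W, g * w * g⁻¹ ∈ ι.range := by
    intro w hw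
    rw [← hT, ← hg]
    exact Subgroup.smul_mem_pointwise_smul w (MulAut.conj g) (T' : Subgroup L) (hT' hw)
  -- the subgroup `R`
  let cg : S →* L := (MulAut.conj g⁻¹).toMonoidHom.comp ι
  have hcg : Function.Injective cg := (MulAut.conj g⁻¹).injective.comp hι.1
  have hcgx : ∀ s : S, cg s = g⁻¹ * ι s * g := fun s => by
    show g⁻¹ * ι s * g⁻¹⁻¹ = _
    rw [inv_inv]
  set R : Subgroup Ω := (W.comap cg).map S.subtype with hR
  have hRS : R ≤ S := by
    rintro _ ⟨s, -, rfl⟩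
    exact s.2
  have hRW : ∀ y : R, cg ⟨y, hRS y.2⟩ ∈ W := by
    rintro ⟨_, ⟨s, hs, rfl⟩⟩
    exact hs
  let κ₀ : R →* W := (cg.comp (Subgroup.inclusion hRS)).codRestrict W hRW
  have hκ₀ : Function.Bijective κ₀ := by
    constructor
    · intro a b hab
      have h1 : cg ⟨a, hRS a.2⟩ = cg ⟨b, hRS b.2⟩ := congrArg Subtype.val hab
      have h2 := congrArg Subtype.val (hcg h1)
      exact Subtype.ext h2
    · rintro ⟨w, hw⟩
      obtain ⟨s, hs⟩ := hWg w hw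
      have hs2 : cg s = w := by
        rw [hcgx, hs]
        group
      have hs3 : cg s ∈ W := by rw [hs2]; exact hw
      exact ⟨⟨s, ⟨s, hs3, rfl⟩⟩, Subtype.ext hs2⟩
  let κ : R ≃* W := MulEquiv.ofBijective κ₀ hκ₀
  have hκ : ∀ y : R, ((κ y : W) : L) = g⁻¹ * ι ⟨y, hRS y.2⟩ * g := fun y => hcgx _
  -- the action of `X`
  let aW : X →* MulAut W := (Subgroup.normalizerMonoidHom W).comp (Subgroup.inclusion hX)
  have haW : ∀ (x : X) (w : W), ((aW x w : W) : L) = x * w * (x : L)⁻¹ := fun x w => rfl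
  let a : X →* MulAut R := (MulAut.congr κ.symm).toMonoidHom.comp aW
  have ha : ∀ (x : X) (y : R), κ (a x y) = aW x (κ y) := by
    intro x y
    show κ (κ.symm (aW x (κ.symm.symm y))) = _
    rw [MulEquiv.apply_symm_apply]
    rfl
  have hker : a.rangeRestrict.ker ≤ ρ.ker := by
    intro x hx
    rw [MonoidHom.ker_rangeRestrict, MonoidHom.mem_ker] at hx
    rw [MonoidHom.mem_ker]
    apply eq_one_of_act
    intro v
    obtain ⟨w, rfl⟩ := he v
    refine (hc x w w ?_).symm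
    have h1 := ha x (κ.symm w)
    rw [hx] at h1
    have h2 : κ ((1 : MulAut R) (κ.symm w)) = w := κ.apply_symm_apply w
    rw [h2, MulEquiv.apply_symm_apply] at h1
    have h3 := congrArg Subtype.val h1
    rw [haW] at h3
    exact h3
  have hs : Function.Surjective a.rangeRestrict := a.rangeRestrict_surjective
  let ρK : a.range →* S2 p := a.rangeRestrict.liftOfSurjective hs ⟨ρ, hker⟩
  have hρK : ∀ x : X, ρK (a.rangeRestrict x) = ρ x := fun x =>
    MonoidHom.liftOfRightInverse_comp_apply _ _ _ ⟨ρ, hker⟩ x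
  refine ⟨R, hRS, a.range, ?_, e.comp κ.toMonoidHom, ρK, he.comp κ.surjective, ?_, ?_⟩
  · rintro _ ⟨x, rfl⟩
    rw [mem_autGroup_iff F hRS]
    refine (hι.2 R hRS _ (fun y => hRS (a x y).2)).2 ⟨g * x * g⁻¹, fun y => ?_⟩
    have h1 := congrArg Subtype.val (ha x y)
    rw [haW, hκ, hκ] at h1
    have h2 : ι ⟨(R.subtype.comp (a x).toMonoidHom) y, hRS (a x y).2⟩ =
        g * (g⁻¹ * ι ⟨(a x y : R), hRS (a x y).2⟩ * g) * g⁻¹ := by
      show ι ⟨(a x y : R), hRS (a x y).2⟩ = _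
      group
    rw [h2, h1]
    group
  · intro A
    obtain ⟨x, rfl⟩ := hρ A
    exact ⟨a.rangeRestrict x, hρK x⟩
  · rintro ⟨_, ⟨x, rfl⟩⟩ y
    have h1 : ρK ⟨a x, ⟨x, rfl⟩⟩ = ρ x := hρK x
    rw [h1]
    show e (κ (a x y)) = act (ρ x) (e (κ y))
    apply hc x (κ y) (κ (a x y))
    rw [ha, haW]

end Cfsg.Agent.H782.QdFus
end

-- part: H782/QdLocal
section
/-!
# Natural sections in normalizer systems (helper782)

* `normalizerHom_transport` : transport of `normalizerHom` along a map `N_S(Q) → N_S(Q₂)` carrying `Q` to `Q₂`;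
* `HasNatAt p F Q` : a natural section in `N_F(Q)`;
* `exists_radical_hasNatAt` : `F` saturated, a natural section in `N_F(Q)` with `Q` fully normalized and centric; then
  there is such a `Q` which is moreover radical.
-/

set_option autoImplicit false

namespace Cfsg.Agent.H782.QdLocal

open Cfsg Cfsg.FusionSystem Cfsg.Agent.H802 Cfsg.Agent.PLocal.QdSection Cfsg.Agent.H782.QdFus
open Cfsg.Agent.H782.RadStep

variable {Ω : Type*} [Group Ω] {S : Subgroup Ω}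

theorem normalizerHom_transport {F : FusionSystem S} {Q Q₂ : Subgroup Ω} (hQ : Q ≤ S)
    {χ : normalizerIn S Q →* Ω} (hχ : χ ∈ F.Hom (normalizerIn S Q))
    (hχN : ∀ x, χ x ∈ normalizerIn S Q₂)
    (hχQ : (Q.subgroupOf (normalizerIn S Q)).map χ = Q₂)
    {P : Subgroup Ω} {φ : P →* Ω} (hφ : φ ∈ F.normalizerHom Q P)
    {P₂ : Subgroup Ω} (hP₂ : P₂ = (P.subgroupOf (normalizerIn S Q)).map χ) {φ₂ : P₂ →* Ω}
    (he : ∀ (x : Ω) (hx : x ∈ P) (hxN : x ∈ normalizerIn S Q) (hx₂ : χ ⟨x, hxN⟩ ∈ P₂)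
      (hφx : φ ⟨x, hx⟩ ∈ normalizerIn S Q),
      φ₂ ⟨χ ⟨x, hxN⟩, hx₂⟩ = χ ⟨φ ⟨x, hx⟩, hφx⟩) :
    φ₂ ∈ F.normalizerHom Q₂ P₂ := by
  obtain ⟨hφF, hPN, hφN, ψ, hψ, hψφ, hψQ⟩ := hφ
  obtain ⟨χ', hχ', -, h1, -⟩ := exists_inv hχ rfl
  have hP₂r : P₂ ≤ χ.range := by
    rw [hP₂]
    rintro _ ⟨x, -, rfl⟩
    exact ⟨x, rfl⟩
  have hQ₂r : Q₂ ≤ χ.range := by
    rw [← hχQ]
    rintro _ ⟨x, -, rfl⟩
    exact ⟨x, rfl⟩
  have hQN : Q ≤ normalizerIn S Q := le_normalizerIn hQ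
  have hP₂ex : ∀ y ∈ P₂, ∃ (x : Ω) (hx : x ∈ P), χ ⟨x, hPN hx⟩ = y := by
    intro y hy
    rw [hP₂] at hy
    obtain ⟨x, hx, rfl⟩ := hy
    exact ⟨x, hx, rfl⟩
  have hQ₂ex : ∀ y ∈ Q₂, ∃ (x : Ω) (hx : x ∈ Q), χ ⟨x, hQN hx⟩ = y := by
    intro y hy
    rw [← hχQ] at hy
    obtain ⟨x, hx, rfl⟩ := hy
    exact ⟨x, hx, rfl⟩
  have hχ'P : ∀ y : P₂, χ' ⟨y, hP₂r y.2⟩ ∈ P := by
    rintro ⟨y, hy⟩
    obtain ⟨x, hx, rfl⟩ := hP₂ex y hy
    have : χ' ⟨χ ⟨x, hPN hx⟩, hP₂r hy⟩ = x := h1 _ _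
    rw [this]
    exact hx
  have hmemP₂ : ∀ (x : Ω) (hx : x ∈ P), χ ⟨x, hPN hx⟩ ∈ P₂ := by
    intro x hx
    rw [hP₂]
    exact ⟨_, hx, rfl⟩
  have hmemQ₂ : ∀ (x : Ω) (hx : x ∈ Q), χ ⟨x, hQN hx⟩ ∈ Q₂ := by
    intro x hx
    rw [← hχQ]
    exact ⟨_, hx, rfl⟩
  refine ⟨?_, ?_, ?_, ?_⟩
  · obtain ⟨a, ha, hae⟩ := exists_comp (restrict_mem hχ' hP₂r) hφF (fun y => hχ'P y)
    obtain ⟨b, hb, hbe⟩ := exists_comp ha hχ (fun y => by rw [hae]; exact hφN _)
    refine mem_of_apply_eq hb (fun y => ?_)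
    obtain ⟨y, hy⟩ := y
    obtain ⟨x, hx, rfl⟩ := hP₂ex y hy
    rw [he x hx (hPN hx) hy (hφN _), hbe]
    congr 1
    apply Subtype.ext
    show φ ⟨x, hx⟩ = a ⟨χ ⟨x, hPN hx⟩, hy⟩
    rw [hae]
    congr 1
    apply Subtype.ext
    exact (h1 ⟨x, hPN hx⟩ _).symm
  · intro y hy
    obtain ⟨x, hx, rfl⟩ := hP₂ex y hy
    exact hχN _
  · rintro ⟨y, hy⟩
    obtain ⟨x, hx, rfl⟩ := hP₂ex y hy
    rw [he x hx (hPN hx) hy (hφN _)]
    exact hχN _
  · have hPQN : P ⊔ Q ≤ normalizerIn S Q := sup_le hPN hQN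
    have hP₂Q₂r : P₂ ⊔ Q₂ ≤ χ.range := sup_le hP₂r hQ₂r
    -- `χ'` carries `P₂ ⊔ Q₂` into `P ⊔ Q`
    have hχ'PQ : ∀ y : ↥(P₂ ⊔ Q₂), χ' ⟨y, hP₂Q₂r y.2⟩ ∈ P ⊔ Q := by
      have hle : P₂ ⊔ Q₂ ≤ ((P ⊔ Q).comap χ').map χ.range.subtype := by
        refine sup_le ?_ ?_
        · intro y hy
          refine ⟨⟨y, hP₂r hy⟩, ?_, rfl⟩
          exact (le_sup_left : P ≤ P ⊔ Q) (hχ'P ⟨y, hy⟩)
        · intro y hy
          refine ⟨⟨y, hQ₂r hy⟩, ?_, rfl⟩
          obtain ⟨x, hx, rfl⟩ := hQ₂ex y hy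
          have h2 : χ' ⟨χ ⟨x, hQN hx⟩, hQ₂r hy⟩ = x := h1 _ _
          have h3 : χ' ⟨χ ⟨x, hQN hx⟩, hQ₂r hy⟩ ∈ P ⊔ Q := by
            rw [h2]
            exact (le_sup_right : Q ≤ P ⊔ Q) hx
          exact h3
      rintro ⟨y, hy⟩
      obtain ⟨z, hz, hzy⟩ := hle hy
      have : z = ⟨y, hP₂Q₂r hy⟩ := Subtype.ext hzy
      rw [← this]
      exact hz
    -- values of `ψ`
    have hψN : ∀ x : ↥(P ⊔ Q), ψ x ∈ normalizerIn S Q := by
      have hle : P ⊔ Q ≤ ((normalizerIn S Q).comap ψ).map (P ⊔ Q).subtype := by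
        refine sup_le ?_ ?_
        · intro y hy
          refine ⟨⟨y, (le_sup_left : P ≤ P ⊔ Q) hy⟩, ?_, rfl⟩
          have h3 : ψ ⟨y, (le_sup_left : P ≤ P ⊔ Q) hy⟩ = φ ⟨y, hy⟩ := hψφ ⟨y, hy⟩
          have h4 : ψ ⟨y, (le_sup_left : P ≤ P ⊔ Q) hy⟩ ∈ normalizerIn S Q := by
            rw [h3]
            exact hφN _
          exact h4
        · intro y hy
          refine ⟨⟨y, (le_sup_right : Q ≤ P ⊔ Q) hy⟩, ?_, rfl⟩
          have h2 : ψ ⟨y, (le_sup_right : Q ≤ P ⊔ Q) hy⟩ ∈ (Q.subgroupOf (P ⊔ Q)).map ψ :=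
            ⟨_, hy, rfl⟩
          exact hQN (hψQ.le h2)
      rintro ⟨y, hy⟩
      obtain ⟨z, hz, hzy⟩ := hle hy
      have : z = ⟨y, hy⟩ := Subtype.ext hzy
      rw [← this]
      exact hz
    obtain ⟨a, ha, hae⟩ := exists_comp (restrict_mem hχ' hP₂Q₂r) hψ (fun y => hχ'PQ y)
    obtain ⟨b, hb, hbe⟩ := exists_comp ha hχ (fun y => by rw [hae]; exact hψN _)
    -- `b (χ x) = χ (ψ x)`
    have hbx : ∀ (x : Ω) (hx : x ∈ P ⊔ Q) (hx₂ : χ ⟨x, hPQN hx⟩ ∈ P₂ ⊔ Q₂),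
        b ⟨χ ⟨x, hPQN hx⟩, hx₂⟩ = χ ⟨ψ ⟨x, hx⟩, hψN _⟩ := by
      intro x hx hx₂
      rw [hbe]
      congr 1
      apply Subtype.ext
      show a ⟨χ ⟨x, hPQN hx⟩, hx₂⟩ = ψ ⟨x, hx⟩
      rw [hae]
      congr 1
      apply Subtype.ext
      exact h1 ⟨x, hPQN hx⟩ _
    refine ⟨b, hb, ?_, ?_⟩
    · rintro ⟨y, hy⟩
      obtain ⟨x, hx, rfl⟩ := hP₂ex y hy
      have h2 := hbx x ((le_sup_left : P ≤ P ⊔ Q) hx) ((le_sup_left : P₂ ≤ P₂ ⊔ Q₂) hy)
      have h3 := he x hx (hPN hx) hy (hφN _)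
      rw [h3]
      refine h2.trans ?_
      congr 1
      apply Subtype.ext
      exact hψφ ⟨x, hx⟩
    · ext z
      constructor
      · rintro ⟨⟨y, hy'⟩, hy, rfl⟩
        obtain ⟨x, hx, rfl⟩ := hQ₂ex y hy
        have h2 := hbx x ((le_sup_right : Q ≤ P ⊔ Q) hx) hy'
        have h4 : ψ ⟨x, (le_sup_right : Q ≤ P ⊔ Q) hx⟩ ∈ Q := by
          have h5 : ψ ⟨x, (le_sup_right : Q ≤ P ⊔ Q) hx⟩ ∈ (Q.subgroupOf (P ⊔ Q)).map ψ :=
            ⟨_, hx, rfl⟩
          exact hψQ.le h5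
        show b ⟨χ ⟨x, _⟩, hy'⟩ ∈ Q₂
        rw [h2]
        exact hmemQ₂ _ h4
      · intro hz
        obtain ⟨x, hx, rfl⟩ := hQ₂ex z hz
        obtain ⟨⟨w, hw'⟩, hw, hwx⟩ := hψQ.ge hx
        refine ⟨⟨χ ⟨w, hQN hw⟩, (le_sup_right : Q₂ ≤ P₂ ⊔ Q₂) (hmemQ₂ w hw)⟩, hmemQ₂ w hw, ?_⟩
        have h2 := hbx w hw' ((le_sup_right : Q₂ ≤ P₂ ⊔ Q₂) (hmemQ₂ w hw))
        refine h2.trans ?_
        congr 1
        exact Subtype.ext hwx

/-- A natural section in the normalizer system of `Q`. -/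
def HasNatAt (p : ℕ) (F : FusionSystem S) (Q : Subgroup Ω) : Prop :=
  ∃ (R : Subgroup Ω) (_ : R ≤ normalizerIn S Q) (K : Subgroup (MulAut R))
    (_ : ∀ α ∈ K, R.subtype.comp α.toMonoidHom ∈ F.normalizerHom Q R) (e : R →* V p)
    (ρ : K →* S2 p), Function.Surjective e ∧ Function.Surjective ρ ∧
      ∀ (α : K) (x : R), e ((α : MulAut R) x) = act (ρ α) (e x)

theorem hasNatAt_iff {p : ℕ} {F : FusionSystem S} {Q : Subgroup Ω}
    {N : FusionSystem (normalizerIn S Q)} (hN : F.IsNormalizerSystem Q N) :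
    HasNat p N ↔ HasNatAt p F Q := by
  constructor
  · rintro ⟨R, hR, K, hK, e, ρ, he, hρ, hc⟩
    refine ⟨R, hR, K, fun α hα => ?_, e, ρ, he, hρ, hc⟩
    rw [← hN]
    exact (mem_autGroup_iff N hR α).1 (hK hα)
  · rintro ⟨R, hR, K, hK, e, ρ, he, hρ, hc⟩
    refine ⟨R, hR, K, fun α hα => ?_, e, ρ, he, hρ, hc⟩
    rw [mem_autGroup_iff N hR, hN]
    exact hK α hα

theorem HasNatAt.mono {p : ℕ} {F : FusionSystem S} {Q Q₁ : Subgroup Ω} (h : HasNatAt p F Q)
    (hN : normalizerIn S Q ≤ normalizerIn S Q₁)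
    (hle : ∀ (P : Subgroup Ω), F.normalizerHom Q P ⊆ F.normalizerHom Q₁ P) :
    HasNatAt p F Q₁ := by
  obtain ⟨R, hR, K, hK, e, ρ, he, hρ, hc⟩ := h
  exact ⟨R, hR.trans hN, K, fun α hα => hle _ (hK α hα), e, ρ, he, hρ, hc⟩

theorem HasNatAt.transport {p : ℕ} {F : FusionSystem S} {Q Q₂ : Subgroup Ω} (hQ : Q ≤ S)
    (h : HasNatAt p F Q) {χ : normalizerIn S Q →* Ω} (hχ : χ ∈ F.Hom (normalizerIn S Q))
    (hχN : ∀ x, χ x ∈ normalizerIn S Q₂)
    (hχQ : (Q.subgroupOf (normalizerIn S Q)).map χ = Q₂) : HasNatAt p F Q₂ := by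
  obtain ⟨R, hR, K, hK, e, ρ, he, hρ, hc⟩ := h
  set R₂ : Subgroup Ω := (R.subgroupOf (normalizerIn S Q)).map χ with hR₂
  have hmem : ∀ x : R, χ ⟨x, hR x.2⟩ ∈ R₂ := fun x => ⟨_, x.2, rfl⟩
  let κ₀ : R →* R₂ := (χ.comp (Subgroup.inclusion hR)).codRestrict R₂ hmem
  have hκ₀ : Function.Bijective κ₀ := by
    constructor
    · intro a b hab
      have h1 : χ ⟨a, hR a.2⟩ = χ ⟨b, hR b.2⟩ := congrArg Subtype.val hab
      have h2 := congrArg Subtype.val (F.injective_of_mem hχ h1)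
      exact Subtype.ext h2
    · rintro ⟨_, ⟨⟨x, hx'⟩, hx, rfl⟩⟩
      exact ⟨⟨x, hx⟩, rfl⟩
  let κ : R ≃* R₂ := MulEquiv.ofBijective κ₀ hκ₀
  have hκ : ∀ x : R, ((κ x : R₂) : Ω) = χ ⟨x, hR x.2⟩ := fun x => rfl
  let c : MulAut R ≃* MulAut R₂ := MulAut.congr κ
  have hcx : ∀ (α : MulAut R) (x : R), c α (κ x) = κ (α x) := by
    intro α x
    show κ (α (κ.symm (κ x))) = _
    rw [MulEquiv.symm_apply_apply]
  let cK : K ≃* (K.map c.toMonoidHom : Subgroup (MulAut R₂)) :=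
    K.equivMapOfInjective c.toMonoidHom c.injective
  have hcK : ∀ α : K, ((cK α : (K.map c.toMonoidHom : Subgroup (MulAut R₂))) : MulAut R₂) = c α :=
    fun α => rfl
  refine ⟨R₂, ?_, K.map c.toMonoidHom, ?_, e.comp κ.symm.toMonoidHom,
    ρ.comp cK.symm.toMonoidHom, he.comp κ.symm.surjective, hρ.comp cK.symm.surjective, ?_⟩
  · rintro _ ⟨x, -, rfl⟩
    exact hχN x
  · rintro _ ⟨α, hα, rfl⟩
    refine normalizerHom_transport hQ hχ hχN hχQ (hK α hα) hR₂ ?_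
    intro x hx hxN hx₂ hφx
    have h1 := congrArg Subtype.val (hcx α ⟨x, hx⟩)
    exact h1
  · intro α₂ y
    obtain ⟨α, rfl⟩ := cK.surjective α₂
    obtain ⟨x, rfl⟩ := κ.surjective y
    show e (κ.symm (c α (κ x))) = act (ρ (cK.symm (cK α))) (e (κ.symm (κ x)))
    rw [hcx, MulEquiv.symm_apply_apply, MulEquiv.symm_apply_apply, MulEquiv.symm_apply_apply]
    exact hc α x

/-- Transport to a fully normalized conjugate. -/
theorem HasNatAt.exists_isFullyNormalized {p : ℕ} [Fact p.Prime] [Finite S] (hS : IsPGroup p S)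
    {F : FusionSystem S} (hF : F.IsSaturated p) {Q₁ : Subgroup Ω} (hQ₁S : Q₁ ≤ S)
    (h₁ : HasNatAt p F Q₁) :
    ∃ Q₂ : Subgroup Ω, F.IsConj Q₁ Q₂ ∧ F.IsFullyNormalized Q₂ ∧ HasNatAt p F Q₂ := by
  obtain ⟨Q₂, hc, hQ₂⟩ := H802.exists_isFullyNormalized hS hF hQ₁S
  have hc' := hc
  obtain ⟨φ, hφ, hφr⟩ := hc
  obtain ⟨β, hβ, ψ, hψ, hψe, hψN⟩ := exists_extension_normalizer hS hF hφ hφr hQ₂
  have hφm : ∀ x : Q₁, φ x ∈ Q₂ := fun x => by rw [← hφr]; exact ⟨x, rfl⟩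
  have hψQ : (Q₁.subgroupOf (normalizerIn S Q₁)).map ψ = Q₂ := by
    ext z
    constructor
    · rintro ⟨⟨y, hy'⟩, hy, rfl⟩
      rw [hψe ⟨y, hy⟩ (hφm _) hy']
      exact (β _).2
    · intro hz
      have h2 : ((β.symm ⟨z, hz⟩ : Q₂) : Ω) ∈ φ.range := by
        rw [hφr]
        exact (β.symm ⟨z, hz⟩).2
      obtain ⟨y, hy⟩ := h2
      refine ⟨⟨y, le_normalizerIn hQ₁S y.2⟩, y.2, ?_⟩
      rw [hψe y (hφm _) _]
      have : (⟨φ y, hφm y⟩ : Q₂) = β.symm ⟨z, hz⟩ := Subtype.ext hy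
      rw [this, MulEquiv.apply_symm_apply]
  exact ⟨Q₂, hc', hQ₂, h₁.transport hQ₁S hψ hψN hψQ⟩

/-- A natural section at a fully normalized centric subgroup gives one at a fully normalized centric radical
subgroup. -/
theorem exists_radical_hasNatAt {p : ℕ} [Fact p.Prime] [Finite S] (hS : IsPGroup p S)
    {F : FusionSystem S} (hF : F.IsSaturated p) {Q : Subgroup Ω} (hQ : F.IsFullyNormalized Q)
    (hQc : F.IsCentric Q) (h : HasNatAt p F Q) :
    ∃ R : Subgroup Ω, F.IsFullyNormalized R ∧ F.IsCentric R ∧ F.IsRadical p R ∧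
      HasNatAt p F R := by
  have main : ∀ n : ℕ, ∀ Q : Subgroup Ω, F.IsFullyNormalized Q → F.IsCentric Q →
      HasNatAt p F Q → Nat.card S - Nat.card Q = n →
      ∃ R : Subgroup Ω, F.IsFullyNormalized R ∧ F.IsCentric R ∧ F.IsRadical p R ∧
      HasNatAt p F R := by
    intro n
    induction n using Nat.strong_induction_on with
    | _ n ih =>
      intro Q hQ hQc h hn
      by_cases hr : F.IsRadical p Q
      · exact ⟨Q, hQ, hQc, hr, h⟩
      obtain ⟨Q₁, hlt, hQ₁N, hNN, hle⟩ := exists_radical_step hS hF hQ hQc hr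
      have hQ₁S : Q₁ ≤ S := hQ₁N.trans inf_le_left
      have h₁ : HasNatAt p F Q₁ := h.mono hNN hle
      obtain ⟨Q₂, hc', hQ₂, h₂⟩ := h₁.exists_isFullyNormalized hS hF hQ₁S
      have hQ₂c : F.IsCentric Q₂ := isCentric_of_isConj (isCentric_of_le hQc hlt.le hQ₁S) hc'
      have hcard : Nat.card Q₂ = Nat.card Q₁ := (isConj_card_eq hc').symm
      have hfin₁ : Finite Q₁ := finite_of_le hQ₁S
      have h3 : Nat.card Q < Nat.card Q₁ := by
        have hfinQ : Finite Q := finite_of_le hQ.1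
        refine lt_of_le_of_ne (Subgroup.card_le_of_le hlt.le) (fun heq => hlt.ne ?_)
        exact Subgroup.eq_of_le_of_card_ge hlt.le heq.ge
      have h4 : Nat.card Q₁ ≤ Nat.card S := Subgroup.card_le_of_le hQ₁S
      exact ih (Nat.card S - Nat.card Q₂) (by omega) Q₂ hQ₂ hQ₂c h₂ rfl
  exact main _ Q hQ hQc h rfl

/-- Transport of a natural section along an isomorphism of the system. -/
theorem exists_isFullyNormalized_of_hasNat {p : ℕ} [Fact p.Prime] [Finite S] (hS : IsPGroup p S)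
    {F : FusionSystem S} (hF : F.IsSaturated p) (h : HasNat p F) :
    ∃ (R : Subgroup Ω) (_ : F.IsFullyNormalized R) (K : Subgroup (MulAut R))
      (_ : K ≤ F.autGroup R) (e : R →* V p) (ρ : K →* S2 p), Function.Surjective e ∧
      Function.Surjective ρ ∧ ∀ (α : K) (x : R), e ((α : MulAut R) x) = act (ρ α) (e x) := by
  obtain ⟨R, hR, K, hK, e, ρ, he, hρ, hc⟩ := h
  obtain ⟨R₂, ⟨φ, hφ, hφr⟩, hR₂⟩ := H802.exists_isFullyNormalized hS hF hR
  let κ : R ≃* R₂ := isoOf φ (F.injective_of_mem hφ) hφr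
  let c : MulAut R ≃* MulAut R₂ := MulAut.congr κ
  have hcx : ∀ (α : MulAut R) (x : R), c α (κ x) = κ (α x) := by
    intro α x
    show κ (α (κ.symm (κ x))) = _
    rw [MulEquiv.symm_apply_apply]
  let cK : K ≃* (K.map c.toMonoidHom : Subgroup (MulAut R₂)) :=
    K.equivMapOfInjective c.toMonoidHom c.injective
  refine ⟨R₂, hR₂, K.map c.toMonoidHom, ?_, e.comp κ.symm.toMonoidHom,
    ρ.comp cK.symm.toMonoidHom, he.comp κ.symm.surjective, hρ.comp cK.symm.surjective, ?_⟩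
  · rintro _ ⟨α, hα, rfl⟩
    exact congr_mem_autGroup hφ hφr (hK hα)
  · intro α₂ y
    obtain ⟨α, rfl⟩ := cK.surjective α₂
    obtain ⟨x, rfl⟩ := κ.surjective y
    show e (κ.symm (c α (κ x))) = act (ρ (cK.symm (cK α))) (e (κ.symm (κ x)))
    rw [hcx, MulEquiv.symm_apply_apply, MulEquiv.symm_apply_apply, MulEquiv.symm_apply_apply]
    exact hc α x

/-- `R C_S(R)` is centric for a fully centralized `R`. -/
theorem isCentric_sup_centralizerIn [Finite S] {F : FusionSystem S} {R : Subgroup Ω}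
    (hR : F.IsFullyCentralized R) : F.IsCentric (R ⊔ centralizerIn S R) := by
  have hRS := hR.1
  have hQS : R ⊔ centralizerIn S R ≤ S := sup_le hRS inf_le_left
  have hRQ : R ≤ R ⊔ centralizerIn S R := le_sup_left
  have hCQ : centralizerIn S R ≤ R ⊔ centralizerIn S R := le_sup_right
  refine ⟨hQS, ?_⟩
  rintro _ ⟨χ, hχ, rfl⟩
  have h1 : F.IsConj R (χ.comp (Subgroup.inclusion hRQ)).range := ⟨_, restrict_mem hχ hRQ, rfl⟩
  have hfin : Finite (centralizerIn S (χ.comp (Subgroup.inclusion hRQ)).range) :=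
    finite_of_le inf_le_left
  intro c hc
  have hc2 : c ∈ centralizerIn S (χ.comp (Subgroup.inclusion hRQ)).range := by
    refine ⟨hc.1, Subgroup.mem_centralizer_iff.2 ?_⟩
    rintro _ ⟨y, rfl⟩
    exact Subgroup.mem_centralizer_iff.1 hc.2 _ ⟨_, rfl⟩
  obtain ⟨x, hx, hxc⟩ := exists_preimage_of_card (F.injective_of_mem hχ) hCQ (fun x hx =>
    apply_mem_centralizerIn hχ hRQ rfl (fun x hx => rfl) _ hx.2) (hR.2 _ h1) c hc2
  exact ⟨⟨x, hCQ hx⟩, hxc⟩

/-- **A natural section of a saturated system is seen at a fully normalized centric subgroup.** -/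
theorem exists_hasNatAt_of_hasNat {p : ℕ} [Fact p.Prime] [Finite S] (hS : IsPGroup p S)
    {F : FusionSystem S} (hF : F.IsSaturated p) (h : HasNat p F) :
    ∃ Q : Subgroup Ω, F.IsFullyNormalized Q ∧ F.IsCentric Q ∧ HasNatAt p F Q := by
  obtain ⟨R, hR, K, hK, e, ρ, he, hρ, hc⟩ := exists_isFullyNormalized_of_hasNat hS hF h
  have hRc := isFullyCentralized_of_isFullyNormalized hS hF hR
  have hRr := isReceptive_of_isFullyNormalized hS hF hR
  have hRS := hR.1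
  set Q : Subgroup Ω := R ⊔ centralizerIn S R with hQ
  have hQS : Q ≤ S := sup_le hRS inf_le_left
  have hRQ : R ≤ Q := le_sup_left
  have hCQ : centralizerIn S R ≤ Q := le_sup_right
  have hQc : F.IsCentric Q := isCentric_sup_centralizerIn hRc
  have hRfin : Finite R := finite_of_le hRS
  have hQfin : Finite Q := finite_of_le hQS
  have hat : HasNatAt p F Q := by
    refine ⟨R, hRQ.trans (le_normalizerIn hQS), K, ?_, e, ρ, he, hρ, hc⟩
    intro α hα
    have hα' := (mem_autGroup_iff F hRS α).1 (hK hα)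
    have hαr : (R.subtype.comp α.toMonoidHom).range = R :=
      range_eq_of_mapsTo hα' (fun x => (α x).2)
    obtain ⟨ψ, hψ, hψe⟩ := hRr.2 R _ hα' hαr
    have hQE : Q ≤ extender S R (R.subtype.comp α.toMonoidHom) :=
      sup_le (le_extender hRS (hom_apply_mem hα')) (centralizerIn_le_extender _ _ _)
    have hψ' := restrict_mem hψ hQE
    have hmaps : ∀ x : Q, (ψ.comp (Subgroup.inclusion hQE)) x ∈ Q := by
      have hle : Q ≤ (Q.comap (ψ.comp (Subgroup.inclusion hQE))).map Q.subtype := by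
        refine sup_le ?_ ?_
        · intro x hx
          refine ⟨⟨x, hRQ hx⟩, ?_, rfl⟩
          have h1 : (ψ.comp (Subgroup.inclusion hQE)) ⟨x, hRQ hx⟩ = (α ⟨x, hx⟩ : R) :=
            hψe x hx _
          show (ψ.comp (Subgroup.inclusion hQE)) ⟨x, hRQ hx⟩ ∈ Q
          rw [h1]
          exact hRQ (α _).2
        · intro x hx
          refine ⟨⟨x, hCQ hx⟩, ?_, rfl⟩
          exact hCQ (apply_mem_centralizerIn hψ' hRQ hαr (fun x hx => hψe x hx _) ⟨x, hCQ hx⟩ hx.2)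
      rintro ⟨x, hx⟩
      obtain ⟨z, hz, hzx⟩ := hle hx
      have : z = ⟨x, hx⟩ := Subtype.ext hzx
      rw [← this]
      exact hz
    have hr := range_eq_of_mapsTo hψ' hmaps
    refine ⟨hα', hRQ.trans (le_normalizerIn hQS),
      fun x => le_normalizerIn hQS (hRQ (α x).2), ?_⟩
    have hRQ' : R ⊔ Q = Q := sup_eq_right.2 hRQ
    have hRQS : R ⊔ Q ≤ Q := hRQ'.le
    refine ⟨(ψ.comp (Subgroup.inclusion hQE)).comp (Subgroup.inclusion hRQS),
      restrict_mem hψ' hRQS, ?_, ?_⟩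
    · intro x
      exact hψe x x.2 _
    · ext z
      constructor
      · rintro ⟨x, -, rfl⟩
        exact hmaps _
      · intro hz
        obtain ⟨x, rfl⟩ := hr.ge hz
        exact ⟨⟨x, hRQ'.ge x.2⟩, x.2, rfl⟩
  obtain ⟨Q₂, hcj, hQ₂, h₂⟩ := hat.exists_isFullyNormalized hS hF hQS
  exact ⟨Q₂, hQ₂, isCentric_of_isConj hQc hcj, h₂⟩

/-- **... and even at a fully normalized centric radical subgroup.** -/
theorem exists_radical_of_hasNat {p : ℕ} [Fact p.Prime] [Finite S] (hS : IsPGroup p S)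
    {F : FusionSystem S} (hF : F.IsSaturated p) (h : HasNat p F) :
    ∃ R : Subgroup Ω, F.IsFullyNormalized R ∧ F.IsCentric R ∧ F.IsRadical p R ∧
      HasNatAt p F R := by
  obtain ⟨Q, hQ, hQc, hQn⟩ := exists_hasNatAt_of_hasNat hS hF h
  exact exists_radical_hasNatAt hS hF hQ hQc hQn

/-- A natural section of a subsystem is a natural section. -/
theorem _root_.Cfsg.Agent.H782.QdFus.HasNat.mono {p : ℕ} {F : FusionSystem S} {T : Subgroup Ω}
    {E : FusionSystem T} (h : HasNat p E) (hle : E.IsSubsystemOf F) : HasNat p F := by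
  obtain ⟨R, hR, K, hK, e, ρ, he, hρ, hc⟩ := h
  have hRS : R ≤ S := (F.le_of_mem (hle R (subtype_mem E hR))).1
  refine ⟨R, hRS, K, fun α hα => ?_, e, ρ, he, hρ, hc⟩
  rw [mem_autGroup_iff F hRS]
  exact hle R ((mem_autGroup_iff E hR α).1 (hK hα))

theorem HasNatAt.hasNat {p : ℕ} {F : FusionSystem S} {Q : Subgroup Ω} (h : HasNatAt p F Q) :
    HasNat p F := by
  obtain ⟨R, hR, K, hK, e, ρ, he, hρ, hc⟩ := h
  refine ⟨R, hR.trans inf_le_left, K, fun α hα => ?_, e, ρ, he, hρ, hc⟩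
  rw [mem_autGroup_iff F (hR.trans inf_le_left)]
  exact (hK α hα).1

end Cfsg.Agent.H782.QdLocal
end
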